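import Cfsg.Agent.Mrg.Omega.BTwo.Count
import Cfsg.Agent.Lib.ProductSet


/-!
# The pair data gives the structure `Hex`

`PLoc.exists_hex`.
-/

set_option autoImplicit false
set_option linter.dupNamespace false

universe u v

namespace Cfsg.Agent.Omega.Hex

open Subgroup Cfsg.Agent.Omega.BTwo

variable {G : Type u} [Group G] {ι : Type v}

namespace PLoc

variable {V : Subgroup G} {R : ι → Subgroup G} {i : ι} {X₂ : Subgroup G} {r : ℕ}

/-- `B = B₀ S` -/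
def BB (V : Subgroup G) (R : ι → Subgroup G) (i : ι) (X₂ S : Subgroup G) : Subgroup G :=
  B0 V R i X₂ ⊔ S

/-- `P₁ = X B` -/
def PP1 (V : Subgroup G) (R : ι → Subgroup G) (i : ι) (X₂ S : Subgroup G) : Subgroup G :=
  XX V R ⊔ BB V R i X₂ S

/-- `P₂ = X₂ B` -/
def PP2 (V : Subgroup G) (R : ι → Subgroup G) (i : ι) (X₂ S : Subgroup G) : Subgroup G :=
  X₂ ⊔ BB V R i X₂ S

variable (l : PLoc V R i X₂ r)
include l

section

variable {S : Subgroup G} (hSF : S ≤ NF V R i)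

include hSF

theorem BB_NF : BB V R i X₂ S ≤ NF V R i := sup_le l.B0_NF hSF

theorem exists_mul₁ {g : G} (hg : g ∈ PP1 V R i X₂ S) : ∃ x ∈ XX V R, ∃ b ∈ BB V R i X₂ S, g = x * b :=
  exists_mul_of_le ((l.BB_NF hSF).trans (inf_le_left.trans l.bt.NV_le_NX)) hg

theorem exists_mul₂ {g : G} (hg : g ∈ PP2 V R i X₂ S) : ∃ x ∈ X₂, ∃ b ∈ BB V R i X₂ S, g = x * b :=
  exists_mul_of_le ((l.BB_NF hSF).trans (inf_le_right.trans l.NX₂)) hg

theorem stab₁ : PP1 V R i X₂ S ⊓ normalizer (R i : Set G) ≤ BB V R i X₂ S := by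
  intro g hgg
  obtain ⟨hg, hgR⟩ := mem_inf.1 hgg
  obtain ⟨x, hx, b, hb, rfl⟩ := l.exists_mul₁ hSF hg
  have h1 : x ∈ normalizer (R i : Set G) := by
    have := mul_mem hgR (inv_mem (l.BB_NF hSF hb).2)
    rwa [mul_inv_cancel_right] at this
  have h2 : x ∈ A1 V R i := mem_inf.2 ⟨hx, h1⟩
  exact mul_mem (mem_sup_left (mem_sup_left h2)) hb

theorem stab₂ : PP2 V R i X₂ S ⊓ normalizer (V : Set G) ≤ BB V R i X₂ S := by
  intro g hgg
  obtain ⟨hg, hgR⟩ := mem_inf.1 hgg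
  obtain ⟨x, hx, b, hb, rfl⟩ := l.exists_mul₂ hSF hg
  have h1 : x ∈ normalizer (V : Set G) := by
    have := mul_mem hgR (inv_mem (l.BB_NF hSF hb).1)
    rwa [mul_inv_cancel_right] at this
  have h2 : x ∈ A2 V X₂ := mem_inf.2 ⟨hx, h1⟩
  exact mul_mem (mem_sup_left (mem_sup_right h2)) hb

theorem PP1_NV : PP1 V R i X₂ S ≤ normalizer (V : Set G) :=
  sup_le l.bt.X_le_NV ((l.BB_NF hSF).trans inf_le_left)

theorem PP2_NR : PP2 V R i X₂ S ≤ normalizer (R i : Set G) :=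
  sup_le l.X₂N ((l.BB_NF hSF).trans inf_le_right)

theorem not_mem_NR {g : G} (hg : g ∈ PP1 V R i X₂ S) (h : g ∉ BB V R i X₂ S) :
    g ∉ normalizer (R i : Set G) := fun h1 => h (l.stab₁ hSF ⟨hg, h1⟩)

theorem not_mem_NV {g : G} (hg : g ∈ PP2 V R i X₂ S) (h : g ∉ BB V R i X₂ S) :
    g ∉ normalizer (V : Set G) := fun h1 => h (l.stab₂ hSF ⟨hg, h1⟩)

/-- `Y` is transitive on `P₂ / B - {B}` -/
theorem trans₂' {x x' : G} (hx : x ∈ PP2 V R i X₂ S) (hx' : x' ∈ PP2 V R i X₂ S)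
    (h : x ∉ normalizer (V : Set G)) (h' : x' ∉ normalizer (V : Set G)) :
    ∃ y ∈ YY V R, (y * x)⁻¹ * x' ∈ normalizer (V : Set G) := by
  obtain ⟨a, ha, b, hb, rfl⟩ := l.exists_mul₂ hSF hx
  obtain ⟨a', ha', b', hb', rfl⟩ := l.exists_mul₂ hSF hx'
  have hbV := (l.BB_NF hSF hb).1
  have hbV' := (l.BB_NF hSF hb').1
  obtain ⟨y, hy, e⟩ := l.trans₂ a ha a' ha' (fun h1 => h (mul_mem h1 hbV))
    (fun h1 => h' (mul_mem h1 hbV'))
  refine ⟨y, hy, ?_⟩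
  have e1 : (y * (a * b))⁻¹ * (a' * b') = b⁻¹ * ((y * a)⁻¹ * a') * b' := by group
  rw [e1]
  exact mul_mem (mul_mem (inv_mem hbV) e) hbV'

theorem ker₂' {x y : G} (hx : x ∈ PP2 V R i X₂ S) (h : x ∉ normalizer (V : Set G)) (hy : y ∈ YY V R)
    (hyx : y ∈ cj x (normalizer (V : Set G))) : y ∈ WW V (R i) := by
  obtain ⟨a, ha, b, hb, rfl⟩ := l.exists_mul₂ hSF hx
  have hbV := (l.BB_NF hSF hb).1
  refine l.ker₂ a ha (fun h1 => h (mul_mem h1 hbV)) y hy ?_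
  rwa [cj_mul, cj_of_mem hbV] at hyx

end

/-! ### the reflections -/

/-- the condition for `x ∈ X` -/
theorem refl₁ {x : G} (hx : x ∈ XX V R) (h : x ∉ normalizer (R i : Set G)) :
    ∀ b ∈ B0 V R i X₂, ∃ u ∈ UZ V R i, u⁻¹ * b ∈ cj x (B0 V R i X₂) := by
  intro b hb
  have hbF := mem_inf.1 (l.B0_NF hb)
  have hxV := l.bt.X_le_NV hx
  obtain ⟨w, hw, e⟩ := l.transW hxV (mul_mem hbF.1 hxV) h (fun h1 => h ((mul_mem_cancel_left hbF.2).1 h1))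
  refine ⟨w, (le_sup_left : WW V (R i) ≤ _) hw, ?_⟩
  rw [mem_cj]
  have e1 : (w * x)⁻¹ * (b * x) = x⁻¹ * (w⁻¹ * b) * x := by group
  rw [e1] at e
  have hwb : w⁻¹ * b ∈ B0 V R i X₂ := mul_mem (inv_mem (l.U_B0 ((le_sup_left : WW V (R i) ≤ _) hw))) hb
  set c := w⁻¹ * b with hc
  have hcF := mem_inf.1 (l.B0_NF hwb)
  have h2 : x⁻¹ * (c * x * c⁻¹) ∈ XX V R :=
    mul_mem (inv_mem hx) (conj_mem_of_normalizer (l.bt.NV_le_NX hcF.1) hx)
  have e2 : x⁻¹ * c * x = x⁻¹ * (c * x * c⁻¹) * c := by group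
  rw [e2] at e ⊢
  have h3 : x⁻¹ * (c * x * c⁻¹) ∈ A1 V R i := mem_inf.2 ⟨h2, (mul_mem_cancel_right hcF.2).1 e⟩
  exact mul_mem (mem_sup_left h3) hwb

/-- the condition for `x ∈ X₂` -/
theorem refl₂ {x : G} (hx : x ∈ X₂) (h : x ∉ normalizer (V : Set G)) :
    ∀ b ∈ B0 V R i X₂, ∃ u ∈ UZ V R i, u⁻¹ * b ∈ cj x (B0 V R i X₂) := by
  intro b hb
  have hbF := mem_inf.1 (l.B0_NF hb)
  have hbx : b * x * b⁻¹ ∈ X₂ := conj_mem_of_normalizer (l.NX₂ hbF.2) hx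
  have hbx' : b * x * b⁻¹ ∉ normalizer (V : Set G) := by
    intro h1
    apply h
    have := conj_inv_mem_of_normalizer (le_normalizer hbF.1) h1
    have e : b⁻¹ * (b * x * b⁻¹) * b = x := by group
    rwa [e] at this
  obtain ⟨w, hw, e⟩ := l.trans₂ x hx _ hbx h hbx'
  refine ⟨w, (le_sup_right : YY V R ≤ _) hw, ?_⟩
  rw [mem_cj]
  have e1 : x⁻¹ * (w⁻¹ * b) * x = (w * x)⁻¹ * (b * x * b⁻¹) * b := by group
  have e0 : x⁻¹ * (w⁻¹ * b) * x ∈ normalizer (V : Set G) := by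
    rw [e1]
    exact mul_mem e hbF.1
  have hwb : w⁻¹ * b ∈ B0 V R i X₂ := mul_mem (inv_mem (l.U_B0 ((le_sup_right : YY V R ≤ _) hw))) hb
  set c := w⁻¹ * b with hc
  have hcF := mem_inf.1 (l.B0_NF hwb)
  have h2 : x⁻¹ * (c * x * c⁻¹) ∈ X₂ :=
    mul_mem (inv_mem hx) (conj_mem_of_normalizer (l.NX₂ hcF.2) hx)
  have e2 : x⁻¹ * c * x = x⁻¹ * (c * x * c⁻¹) * c := by group
  rw [e2] at e0 ⊢
  have h3 : x⁻¹ * (c * x * c⁻¹) ∈ A2 V X₂ := mem_inf.2 ⟨h2, (mul_mem_cancel_right hcF.1).1 e0⟩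
  exact mul_mem (mem_sup_right h3) hwb

/-! ### torus elements in `H` -/

variable [Finite G] {H : Subgroup G} (hH : Cpl (UZ V R i) (B0 V R i X₂) H)

include hH

theorem exists_conj_mem {t : G} (ht : t ∈ B0 V R i X₂) (ho : Odd (orderOf t)) :
    ∃ u ∈ UZ V R i, u * t * u⁻¹ ∈ H := by
  obtain ⟨u, hu, h1⟩ := l.nt.conj_le hH (K := zpowers t) ((zpowers_le).2 ht)
    (by rw [Nat.card_zpowers]; exact ho)
  exact ⟨u, hu, h1 (conj_mem_cj (mem_zpowers t))⟩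

theorem exists_t₁ : ∃ t ∈ H, ∀ w ∈ WW V (R i), t⁻¹ * w⁻¹ * t * w ∈ YY V R → w ∈ YY V R := by
  obtain ⟨t, ht, htR, ho, H1⟩ := l.t₁
  have htB : t ∈ B0 V R i X₂ := mem_sup_left (mem_inf.2 ⟨ht, htR⟩)
  obtain ⟨u, hu, h1⟩ := l.exists_conj_mem hH htB ho
  have huF := l.B0_NF (l.U_B0 hu)
  refine ⟨_, h1, fun w hw hc => ?_⟩
  have hY := l.NF_NY
  have hw' : u⁻¹ * w * u ∈ WW V (R i) := conj_inv_mem_of_normalizer (l.NF_NW huF) hw
  have h2 : u⁻¹ * w * u ∈ YY V R := by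
    apply H1 _ hw'
    -- conjugate
    set t' := u * t * u⁻¹ with ht'
    have htF := l.B0_NF (hH.HB h1)
    have h3 := conj_mem_of_normalizer (hY (mul_mem (l.B0_NF (l.U_B0 ((le_sup_left : WW V (R i) ≤ _) hw))) htF)) hc
    have h4 := conj_inv_mem_of_normalizer (hY huF) h3
    have e : u⁻¹ * (w * t' * (t'⁻¹ * w⁻¹ * t' * w) * (w * t')⁻¹) * u =
        t * (u⁻¹ * w * u) * t⁻¹ * (u⁻¹ * w * u)⁻¹ := by
      rw [ht']; group
    rwa [e] at h4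
  have h5 := conj_mem_of_normalizer (hY huF) h2
  have e : u * (u⁻¹ * w * u) * u⁻¹ = w := by group
  rwa [e] at h5

theorem exists_t₂ : ∃ t ∈ H, ∀ w ∈ YY V R, t⁻¹ * w⁻¹ * t * w ∈ WW V (R i) → w ∈ WW V (R i) := by
  obtain ⟨t, ht, htR, ho, H1⟩ := l.t₂
  have htB : t ∈ B0 V R i X₂ := mem_sup_right (mem_inf.2 ⟨ht, htR⟩)
  obtain ⟨u, hu, h1⟩ := l.exists_conj_mem hH htB ho
  have huF := l.B0_NF (l.U_B0 hu)
  refine ⟨_, h1, fun w hw hc => ?_⟩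
  have hY := l.NF_NW
  have hw' : u⁻¹ * w * u ∈ YY V R := conj_inv_mem_of_normalizer (l.NF_NY huF) hw
  have h2 : u⁻¹ * w * u ∈ WW V (R i) := by
    apply H1 _ hw'
    -- conjugate
    set t' := u * t * u⁻¹ with ht'
    have htF := l.B0_NF (hH.HB h1)
    have h3 := conj_mem_of_normalizer
      (hY (mul_mem (l.B0_NF (l.U_B0 ((le_sup_right : YY V R ≤ _) hw))) htF)) hc
    have h4 := conj_inv_mem_of_normalizer (hY huF) h3
    have e : u⁻¹ * (w * t' * (t'⁻¹ * w⁻¹ * t' * w) * (w * t')⁻¹) * u =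
        t * (u⁻¹ * w * u) * t⁻¹ * (u⁻¹ * w * u)⁻¹ := by
      rw [ht']; group
    rwa [e] at h4
  have h5 := conj_mem_of_normalizer (hY huF) h2
  have e : u * (u⁻¹ * w * u) * u⁻¹ = w := by group
  rwa [e] at h5

variable {S : Subgroup G} (hSF : S ≤ NF V R i)
include hSF

theorem two₁ {n₁ : G} (hn : n₁ ∈ PP1 V R i X₂ S) (hnB : n₁ ∉ BB V R i X₂ S)
    (hnH : n₁ ∈ normalizer (H : Set G)) {g : G} (hg : g ∈ PP1 V R i X₂ S)
    (hgH : ∀ x ∈ H, g⁻¹ * x * g ∈ BB V R i X₂ S) : g ∈ BB V R i X₂ S ∨ n₁⁻¹ * g ∈ BB V R i X₂ S := by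
  by_cases hgB : g ∈ BB V R i X₂ S
  · exact Or.inl hgB
  right
  have hPV := l.PP1_NV hSF
  obtain ⟨w, hw, e⟩ := l.transW (hPV hn) (hPV hg) (l.not_mem_NR hSF hn hnB) (l.not_mem_NR hSF hg hgB)
  obtain ⟨t, ht, H1⟩ := l.exists_t₁ hH
  have hBR : BB V R i X₂ S ≤ normalizer (R i : Set G) := (l.BB_NF hSF).trans inf_le_right
  have hHB : H ≤ BB V R i X₂ S := hH.HB.trans le_sup_left
  -- `w⁻¹ t w` fixes the point `n₁ R`
  have h1 : w⁻¹ * t * w ∈ cj n₁ (normalizer (R i : Set G)) := by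
    rw [mem_cj]
    have h2 := conj_mem_of_normalizer (le_normalizer e) (hBR (hgH t ht))
    have e1 : (w * n₁)⁻¹ * g * (g⁻¹ * t * g) * ((w * n₁)⁻¹ * g)⁻¹ = n₁⁻¹ * (w⁻¹ * t * w) * n₁ := by group
    rwa [e1] at h2
  have h2 : t⁻¹ ∈ cj n₁ (normalizer (R i : Set G)) := by
    rw [mem_cj]
    exact hBR (hHB (conj_inv_mem_of_normalizer hnH (inv_mem ht)))
  have h3 : t⁻¹ * w⁻¹ * t * w ∈ cj n₁ (normalizer (R i : Set G)) := by
    have := mul_mem h2 h1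
    rwa [← mul_assoc, ← mul_assoc] at this
  have htN := l.NF_NW (l.B0_NF (hH.HB ht))
  have h4 : t⁻¹ * w⁻¹ * t * w ∈ WW V (R i) := mul_mem (conj_inv_mem_of_normalizer htN (inv_mem hw)) hw
  have h5 := H1 w hw (l.kerW (hPV hn) (l.not_mem_NR hSF hn hnB) h4 h3)
  -- `w` fixes `n₁ R`
  have h6 : n₁⁻¹ * w * n₁ ∈ normalizer (R i : Set G) := by
    have h7 : n₁⁻¹ * w * n₁ ∈ YY V R := conj_inv_mem_of_normalizer (l.bt.NV_le_NY (hPV hn)) h5
    exact l.Y_NR h7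
  refine l.stab₁ hSF (mem_inf.2 ⟨mul_mem (inv_mem hn) hg, ?_⟩)
  have e2 : n₁⁻¹ * g = (n₁⁻¹ * w * n₁) * ((w * n₁)⁻¹ * g) := by group
  rw [e2]
  exact mul_mem h6 e

theorem two₂ {n₂ : G} (hn : n₂ ∈ PP2 V R i X₂ S) (hnB : n₂ ∉ BB V R i X₂ S)
    (hnH : n₂ ∈ normalizer (H : Set G)) {g : G} (hg : g ∈ PP2 V R i X₂ S)
    (hgH : ∀ x ∈ H, g⁻¹ * x * g ∈ BB V R i X₂ S) : g ∈ BB V R i X₂ S ∨ n₂⁻¹ * g ∈ BB V R i X₂ S := by
  by_cases hgB : g ∈ BB V R i X₂ S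
  · exact Or.inl hgB
  right
  obtain ⟨w, hw, e⟩ := l.trans₂' hSF hn hg (l.not_mem_NV hSF hn hnB) (l.not_mem_NV hSF hg hgB)
  obtain ⟨t, ht, H1⟩ := l.exists_t₂ hH
  have hBR : BB V R i X₂ S ≤ normalizer (V : Set G) := (l.BB_NF hSF).trans inf_le_left
  have hHB : H ≤ BB V R i X₂ S := hH.HB.trans le_sup_left
  have h1 : w⁻¹ * t * w ∈ cj n₂ (normalizer (V : Set G)) := by
    rw [mem_cj]
    have h2 := conj_mem_of_normalizer (le_normalizer e) (hBR (hgH t ht))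
    have e1 : (w * n₂)⁻¹ * g * (g⁻¹ * t * g) * ((w * n₂)⁻¹ * g)⁻¹ = n₂⁻¹ * (w⁻¹ * t * w) * n₂ := by group
    rwa [e1] at h2
  have h2 : t⁻¹ ∈ cj n₂ (normalizer (V : Set G)) := by
    rw [mem_cj]
    exact hBR (hHB (conj_inv_mem_of_normalizer hnH (inv_mem ht)))
  have h3 : t⁻¹ * w⁻¹ * t * w ∈ cj n₂ (normalizer (V : Set G)) := by
    have := mul_mem h2 h1
    rwa [← mul_assoc, ← mul_assoc] at this
  have htN := l.NF_NY (l.B0_NF (hH.HB ht))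
  have h4 : t⁻¹ * w⁻¹ * t * w ∈ YY V R := mul_mem (conj_inv_mem_of_normalizer htN (inv_mem hw)) hw
  have h5 := H1 w hw (l.ker₂' hSF hn (l.not_mem_NV hSF hn hnB) h4 h3)
  -- `w` fixes `n₂ V`
  have h6 : n₂⁻¹ * w * n₂ ∈ normalizer (V : Set G) := by
    have h7 : n₂⁻¹ * w * n₂ ∈ WW V (R i) :=
      conj_inv_mem_of_normalizer (normalizer_le_WW V (R i) (l.PP2_NR hSF hn)) h5
    exact l.W_NV h7
  refine l.stab₂ hSF (mem_inf.2 ⟨mul_mem (inv_mem hn) hg, ?_⟩)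
  have e2 : n₂⁻¹ * g = (n₂⁻¹ * w * n₂) * ((w * n₂)⁻¹ * g) := by group
  rw [e2]
  exact mul_mem h6 e

end PLoc

/-- an element of odd order of `B₀ S` is in `B₀` -/
theorem mem_of_odd [Finite G] {C S : Subgroup G} (hS : IsPGroup 2 S) (h : S ≤ normalizer (C : Set G)) {k : G}
    (hk : k ∈ C ⊔ S) (ho : Odd (orderOf k)) : k ∈ C := by
  obtain ⟨c, hc, s, hs, e⟩ := exists_mul_of_le h hk
  have h1 : ∀ n : ℕ, ∃ c' ∈ C, k ^ n = c' * s ^ n := by
    intro n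
    induction n with
    | zero => exact ⟨1, one_mem _, by simp⟩
    | succ n ih =>
      obtain ⟨c', hc', e'⟩ := ih
      refine ⟨c' * (s ^ n * c * (s ^ n)⁻¹), mul_mem hc' (conj_mem_of_normalizer (h (pow_mem hs n)) hc), ?_⟩
      calc k ^ (n + 1) = k ^ n * k := pow_succ _ _
        _ = c' * s ^ n * (c * s) := by rw [e', ← e]
        _ = c' * (s ^ n * c * (s ^ n)⁻¹) * (s ^ n * s) := by group
        _ = _ := by rw [← pow_succ]
  obtain ⟨m, hm⟩ := hS ⟨s, hs⟩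
  have hm' : s ^ 2 ^ m = 1 := congrArg Subtype.val hm
  obtain ⟨c', hc', e'⟩ := h1 (2 ^ m)
  rw [hm', mul_one] at e'
  obtain ⟨j, hj⟩ := exists_pow_eq_self_of_coprime
    (Nat.Coprime.pow_left m (Nat.coprime_two_left.2 ho) : (2 ^ m).Coprime (orderOf k))
  rw [← hj, e']
  exact pow_mem hc' j

theorem card_mul_relIndex {K L : Subgroup G} (h : K ≤ L) : Nat.card K * K.relIndex L = Nat.card L := by
  rw [← (K.subgroupOf L).card_mul_index, Nat.card_congr (subgroupOfEquivOfLe h).toEquiv]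
  rfl

namespace PLoc

variable {V : Subgroup G} {R : ι → Subgroup G} {i : ι} {X₂ : Subgroup G} {r : ℕ}
variable (l : PLoc V R i X₂ r)
include l

/-- `V` and `V^x` do not commute -/
theorem not_comm {x : G} (hx : x ∈ X₂) (h : x ∉ normalizer (V : Set G))
    (hc : ∀ v ∈ V, ∀ v' ∈ cj x V, v * v' = v' * v) : False := by
  obtain ⟨g, hg, H⟩ := l.bt.mt i
  obtain ⟨a, ha, hag⟩ := l.frat₂ g hg
  obtain ⟨j, hj, -⟩ := l.bt.third i i
  obtain ⟨k, hki, hkj⟩ := l.bt.third i j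
  obtain ⟨⟨v, hv, e⟩, -⟩ := H j k hj hki
  have hcen : g * v * g⁻¹ ∈ centralizer (V : Set G) → False := by
    intro h2
    have h3 : cj (g * v * g⁻¹) (R j) = R j := cj_eq_self_iff.2 (l.bt.cen_le_N j h2)
    exact hkj (l.bt.R_index (e.symm.trans h3))
  have hga : cj g V = cj a V := by
    have e1 : g = a * (a⁻¹ * g) := by group
    rw [e1, cj_mul, cj_eq_self_iff.2 hag]
  have h1 : g * v * g⁻¹ ∈ cj a V := by rw [← hga]; exact conj_mem_cj hv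
  apply hcen
  by_cases haV : a ∈ normalizer (V : Set G)
  · rw [cj_eq_self_iff.2 haV] at h1
    exact l.bt.V_le_cen h1
  · obtain ⟨y, hy, e2⟩ := l.trans₂ x hx a ha h haV
    have e3 : a = y * (x * ((y * x)⁻¹ * a)) := by group
    rw [e3, cj_mul, cj_mul, cj_eq_self_iff.2 e2, mem_cj] at h1
    have h4 : y⁻¹ * (g * v * g⁻¹) * y ∈ centralizer (V : Set G) := by
      rw [mem_centralizer_iff]
      exact fun v' hv' => hc v' hv' _ h1
    have hyc := YY_le_cen hy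
    have h5 := mul_mem (mul_mem hyc h4) (inv_mem hyc)
    have e4 : y * (y⁻¹ * (g * v * g⁻¹) * y) * y⁻¹ = g * v * g⁻¹ := by group
    rwa [e4] at h5

/-- `V ∩ Y^x = R` -/
theorem VV {x : G} (hx : x ∈ X₂) (h : x ∉ normalizer (V : Set G)) : V ⊓ cj x (YY V R) = R i := by
  apply le_antisymm
  · intro v hv
    obtain ⟨hv1, hv2⟩ := mem_inf.1 hv
    by_contra hvR
    rw [mem_cj] at hv2
    refine l.not_comm hx h fun w hw g hg => ?_
    have hxN := normalizer_le_WW V (R i) (l.X₂N hx)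
    have hgW : g ∈ WW V (R i) := by
      have h1 := cj_mono (g := x) (V_le_WW V (R i)) hg
      rwa [cj_eq_self_iff.2 hxN] at h1
    have h2 : g * v = v * g := by
      rw [mem_cj] at hg
      have h3 := mem_centralizer_iff.1 (YY_le_cen hv2) _ hg
      calc g * v = x * ((x⁻¹ * g * x) * (x⁻¹ * v * x)) * x⁻¹ := by group
        _ = x * ((x⁻¹ * v * x) * (x⁻¹ * g * x)) * x⁻¹ := by rw [h3]
        _ = v * g := by group
    exact (l.bt.reg (l.bt.W_le_Q i hgW) hv1 hvR h2 w hw).symm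
  · refine le_inf (l.bt.R_le i) ?_
    have h1 := cj_mono (g := x) (((l.bt.R_le i).trans (V_le_D V R)).trans l.bt.D_le_Y)
    rwa [cj_eq_self_iff.2 (l.X₂N hx)] at h1

theorem W_inf_Y : WW V (R i) ⊓ YY V R = UU V R i := by
  apply le_antisymm
  · exact inf_le_inf_left _ YY_le_cen
  · exact le_inf (UU_le_WW i) (UU_le_YY i)

variable [Finite G]

theorem card_V : Nat.card V = Nat.card (R i) * Nat.card (R i) := by rw [l.bt.card_V i, sq]

theorem card_D : Nat.card (BTwo.DD V R) = r * (Nat.card (R i) * Nat.card (R i)) := by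
  rw [← card_mul_relIndex (V_le_D V R), l.cD, l.card_V, mul_comm]

theorem card_UU (j : ι) : Nat.card (UU V R j) = r * Nat.card (BTwo.DD V R) := by
  rw [← card_mul_relIndex (l.bt.D_le_U j), ← l.bt.card_U i j, l.cU, mul_comm]

theorem card_W : Nat.card (WW V (R i)) = Nat.card (R i) * Nat.card (UU V R i) := by
  rw [← card_mul_relIndex (UU_le_WW (V := V) (R := R) i), l.bt.relIndex_U i, mul_comm]

theorem card_Y : Nat.card (YY V R) = r * Nat.card (UU V R i) := by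
  obtain ⟨j, hj, -⟩ := l.bt.third i i
  have h1 : (UU V R i).relIndex (YY V R) = r := by
    rw [l.bt.Y_eq (Ne.symm hj), relIndex_sup_of_le ((UU_le_cen j).trans (l.bt.cen_le_NU i)),
      ← inf_relIndex_right, l.bt.UU_inf (Ne.symm hj), ← l.bt.card_U i j, l.cU]
  rw [← card_mul_relIndex (UU_le_YY (V := V) (R := R) i), h1, mul_comm]

/-- **the structure `Hex`** -/
theorem hex {S : Subgroup G} (hS : IsPGroup 2 S) (hSF : S ≤ NF V R i) {H : Subgroup G}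
    (hH : Cpl (UZ V R i) (B0 V R i X₂) H) : ∃ n₁ ∈ XX V R, ∃ n₂ ∈ X₂,
    Hex (PP1 V R i X₂ S) (PP2 V R i X₂ S) (BB V R i X₂ S) (UZ V R i) H V (R i) (WW V (R i)) (YY V R)
      (BTwo.DD V R) n₁ n₂ (Nat.card (R i)) r := by
  have ht := l.nt
  have hBF := l.BB_NF hSF
  have hBV : BB V R i X₂ S ≤ normalizer (V : Set G) := hBF.trans inf_le_left
  have hBR : BB V R i X₂ S ≤ normalizer (R i : Set G) := hBF.trans inf_le_right
  -- the reflections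
  obtain ⟨x₁, hx₁, hx₁'⟩ := l.exists_x₁
  obtain ⟨u₁, hu₁, u₁', hu₁', hn₁⟩ := ht.exists_norm hH (l.refl₁ hx₁ hx₁')
  obtain ⟨x₂, hx₂, hx₂'⟩ := l.exists_x₂
  obtain ⟨u₂, hu₂, u₂', hu₂', hn₂⟩ := ht.exists_norm hH (l.refl₂ hx₂ hx₂')
  have hU1 : UZ V R i ≤ XX V R := l.U_A1.trans inf_le_left
  have hU2 : UZ V R i ≤ X₂ := l.U_A2.trans inf_le_left
  have hUF : UZ V R i ≤ NF V R i := l.U_B0.trans l.B0_NF
  set n₁ := u₁ * x₁ * u₁' with hn₁def
  set n₂ := u₂ * x₂ * u₂' with hn₂def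
  have hn₁X : n₁ ∈ XX V R := mul_mem (mul_mem (hU1 hu₁) hx₁) (hU1 hu₁')
  have hn₂X : n₂ ∈ X₂ := mul_mem (mul_mem (hU2 hu₂) hx₂) (hU2 hu₂')
  have hn₁R : n₁ ∉ normalizer (R i : Set G) := fun h => hx₁' (by
    rwa [hn₁def, mul_mem_cancel_right (mem_inf.1 (hUF hu₁')).2, mul_mem_cancel_left (mem_inf.1 (hUF hu₁)).2] at h)
  have hn₂V : n₂ ∉ normalizer (V : Set G) := fun h => hx₂' (by
    rwa [hn₂def, mul_mem_cancel_right (mem_inf.1 (hUF hu₂')).1, mul_mem_cancel_left (mem_inf.1 (hUF hu₂)).1] at h)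
  have hn₁P : n₁ ∈ PP1 V R i X₂ S := (le_sup_left : XX V R ≤ _) hn₁X
  have hn₂P : n₂ ∈ PP2 V R i X₂ S := (le_sup_left : X₂ ≤ _) hn₂X
  have hn₁B : n₁ ∉ BB V R i X₂ S := fun h => hn₁R (hBR h)
  have hn₂B : n₂ ∉ BB V R i X₂ S := fun h => hn₂V (hBV h)
  have hn₁V : n₁ ∈ normalizer (V : Set G) := l.bt.X_le_NV hn₁X
  obtain ⟨j, hj⟩ := l.bt.perm n₁ hn₁V i
  have hji : j ≠ i := by
    rintro rfl
    exact hn₁R (cj_eq_self_iff.1 hj)
  refine ⟨n₁, hn₁X, n₂, hn₂X, ?_⟩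
  exact
    { two := l.U_two
      q4 := l.q4
      r4 := l.r4
      B₁ := le_sup_right
      B₂ := le_sup_right
      UB := l.U_B0.trans le_sup_left
      nU := hBF.trans l.NF_NU
      HB := hH.HB.trans le_sup_left
      n₁P := hn₁P
      n₂P := hn₂P
      n₁B := hn₁B
      n₂B := hn₂B
      n₁H := hn₁
      n₂H := hn₂
      two₁ := fun g hg h => l.two₁ hH hSF hn₁P hn₁B hn₁ hg h
      two₂ := fun g hg h => l.two₂ hH hSF hn₂P hn₂B hn₂ hg h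
      oddH := ht.odd_cpl hH
      hall := fun K hK hHK ho => by
        refine ht.le_of_le hH (fun k hk => ?_) hHK ho
        refine mem_of_odd hS (hSF.trans l.NF_NB0) (hK hk) ?_
        exact ho.of_dvd_nat ((orderOf_mk k hk).symm ▸ orderOf_dvd_natCard (⟨k, hk⟩ : K))
      frat := fun b hb => ht.frattini hH (l.NF_NU (hBF hb)) (l.NF_NB0 (hBF hb))
      nV := l.PP1_NV hSF
      nY := (l.PP1_NV hSF).trans l.bt.NV_le_NY
      nD := (l.PP1_NV hSF).trans l.bt.NV_le_ND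
      nR := l.PP2_NR hSF
      nW := (l.PP2_NR hSF).trans (normalizer_le_WW V (R i))
      stab₁ := l.stab₁ hSF
      stab₂ := l.stab₂ hSF
      RV := l.bt.R_le i
      VD := V_le_D V R
      DW := D_le_W V R i
      DY := l.bt.D_le_Y
      WU := le_sup_left
      YU := le_sup_right
      UWY := le_rfl
      D_eq := by rw [l.bt.cj_WW hj, ← l.bt.D_eq' (Ne.symm hji)]
      cR := rfl
      cV := l.card_V
      cD := l.card_D
      cWY := by rw [l.W_inf_Y, l.card_UU]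
      cW := by rw [l.W_inf_Y, l.card_W]
      cY := by rw [l.W_inf_Y, l.card_Y]
      sq := l.bt.V_sq
      YV := fun y hy v hv => (mem_centralizer_iff.1 (YY_le_cen hy) v hv).symm
      Rn := by rw [hj, l.bt.R_inf i j (Ne.symm hji)]
      trans₁ := fun x hx hxB => by
        obtain ⟨w, hw, e⟩ := l.transW hn₁V (l.PP1_NV hSF hx) hn₁R (l.not_mem_NR hSF hx hxB)
        refine ⟨w, hw, l.stab₁ hSF (mem_inf.2 ⟨mul_mem (inv_mem (mul_mem ?_ hn₁P)) hx, e⟩)⟩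
        exact (le_sup_left : XX V R ≤ _) (W_le_X V R i hw)
      ker₁ := fun w hw => by
        obtain ⟨h1, h2⟩ := mem_inf.1 hw
        exact l.kerW hn₁V hn₁R h1 (cj_mono hBR h2)
      trans₂ := fun x hx hxB => by
        obtain ⟨w, hw, e⟩ := l.trans₂' hSF hn₂P hx hn₂V (l.not_mem_NV hSF hx hxB)
        refine ⟨w, hw, l.stab₂ hSF (mem_inf.2 ⟨mul_mem (inv_mem (mul_mem ?_ hn₂P)) hx, e⟩)⟩
        exact (le_sup_left : X₂ ≤ _) (l.Y₂ hw)
      ker₂ := fun w hw => by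
        obtain ⟨h1, h2⟩ := mem_inf.1 hw
        exact l.ker₂ n₂ hn₂X hn₂V w h1 (cj_mono hBV h2)
      VV := l.VV hn₂X hn₂V
      DD := by
        apply le_antisymm (l.DD n₂ hn₂X hn₂V)
        refine le_inf ((l.bt.R_le i).trans (V_le_D V R)) ?_
        have h1 := cj_mono (g := n₂) ((l.bt.R_le i).trans (V_le_D V R))
        rwa [cj_eq_self_iff.2 (l.X₂N hn₂X)] at h1 }

end PLoc

end Cfsg.Agent.Omega.Hex
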