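import Cfsg.Agent.Mrg.Omega.BTwo.Count
import Cfsg.Agent.Mrg.Omega.BTwo.QuadGrp
import Cfsg.Agent.Mrg.Omega.Hex.OfLoc
import Cfsg.Agent.Mrg.Omega.SQEnd.Line
import Cfsg.Agent.Lib.SL2Mat

section


/-!
# The stabiliser of a point in `X`: the fields `odd₁`, `t₁` of `PLoc` from coordinates

`Coord.odd₁`: `|N_X(R i) : W Y|` is odd (in particular `C_X(V)/Y` has odd order: transfer);
`Coord.t₁`: the torus element.
-/

set_option autoImplicit false
set_option linter.dupNamespace false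
set_option linter.unusedSectionVars false

universe u v w

namespace Cfsg.Agent.Omega.Hex

open Subgroup Cfsg.Agent.Omega.BTwo
open scoped commutatorElement

/-- In a perfect group the central elements of a Sylow subgroup lie in its commutator subgroup. -/
theorem mem_commutator_of_center {J : Type*} [Group J] [Finite J] (hJ : _root_.commutator J = ⊤) {p : ℕ}
    [Fact p.Prime] (Q : Sylow p J) {z : J} (hz : z ∈ center J) (hzQ : z ∈ (Q : Subgroup J)) :
    z ∈ ⁅(Q : Subgroup J), (Q : Subgroup J)⁆ := by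
  set φ : (Q : Subgroup J) →* Abelianization (Q : Subgroup J) := Abelianization.of with hφ
  have key : ∀ (k : ℕ) (g₀ : J), g₀⁻¹ * z ^ k * g₀ ∈ (Q : Subgroup J) → g₀⁻¹ * z ^ k * g₀ = z ^ k := by
    intro k g₀ _
    have h1 := mem_center_iff.1 (pow_mem hz k) g₀
    rw [mul_assoc, ← h1, ← mul_assoc, inv_mul_cancel, one_mul]
  have h1 := MonoidHom.transfer_eq_pow φ z key
  have h2 : MonoidHom.transfer φ z = 1 := by
    have h3 := Abelianization.commutator_subset_ker (MonoidHom.transfer φ)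
    rw [hJ] at h3
    exact h3 (mem_top z)
  rw [h2] at h1
  set n := (Q : Subgroup J).index with hn
  have h3 : (⟨z ^ n, MonoidHom.transfer_eq_pow_aux z key⟩ : (Q : Subgroup J)) ∈
      _root_.commutator (Q : Subgroup J) := by
    rw [← Abelianization.ker_of, MonoidHom.mem_ker]
    exact h1.symm
  have h4 : z ^ n ∈ ⁅(Q : Subgroup J), (Q : Subgroup J)⁆ := by
    rw [← Subgroup.map_subtype_commutator]
    exact ⟨_, h3, rfl⟩
  obtain ⟨m, hm⟩ := Q.isPGroup' ⟨z, hzQ⟩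
  have hzm : z ^ p ^ m = 1 := congrArg Subtype.val hm
  have hcop : Nat.Coprime n (orderOf z) := by
    apply Nat.Coprime.coprime_dvd_right (orderOf_dvd_of_pow_eq_one hzm)
    apply Nat.Coprime.pow_right
    rw [Nat.coprime_comm, Nat.Prime.coprime_iff_not_dvd Fact.out]
    exact Q.not_dvd_index
  obtain ⟨l, hl⟩ := exists_pow_eq_self_of_coprime hcop
  rw [← hl]
  exact pow_mem h4 l

variable {G : Type u} [Group G]

/-- a 2-group normalising a nontrivial 2-group has a nontrivial fixed point -/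
theorem exists_fixed [Finite G] {V T : Subgroup G} (hV : IsPGroup 2 V) (hV1 : V ≠ ⊥)
    (hT : IsPGroup 2 T) (hn : T ≤ normalizer (V : Set G)) :
    ∃ v ∈ V, v ≠ 1 ∧ ∀ t ∈ T, t * v * t⁻¹ = v := by
  have : Fact (Nat.Prime 2) := ⟨Nat.prime_two⟩
  let act : MulAction T V :=
    { smul := fun t v => ⟨t * v * (t : G)⁻¹, conj_mem_of_normalizer (hn t.2) v.2⟩
      one_smul := fun v => by
        apply Subtype.ext
        change ((1 : T) : G) * v * ((1 : T) : G)⁻¹ = v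
        simp
      mul_smul := fun a b v => by
        apply Subtype.ext
        change ((a * b : T) : G) * v * ((a * b : T) : G)⁻¹ = a * (b * v * (b : G)⁻¹) * (a : G)⁻¹
        push_cast
        group }
  have hsm : ∀ (t : T) (v : V), ((t • v : V) : G) = t * v * (t : G)⁻¹ := fun _ _ => rfl
  have h1 := hT.card_modEq_card_fixedPoints V
  have h2 : 2 ∣ Nat.card V := by
    obtain ⟨n, hn⟩ := IsPGroup.iff_card.mp hV
    rcases Nat.eq_zero_or_pos n with h0 | h0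
    · subst h0
      rw [pow_zero] at hn
      exact absurd ((card_eq_one).mp hn) hV1
    · rw [hn]
      exact dvd_pow_self 2 h0.ne'
  have h3 : 2 ∣ Nat.card (MulAction.fixedPoints T V) :=
    (Nat.modEq_zero_iff_dvd.1 (h1.symm.trans (Nat.modEq_zero_iff_dvd.2 h2)))
  have hone : (1 : V) ∈ MulAction.fixedPoints T V := fun t => Subtype.ext (by rw [hsm]; simp)
  have : Finite (MulAction.fixedPoints T V) := inferInstance
  have h4 : 1 < Nat.card (MulAction.fixedPoints T V) := by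
    have h5 : 0 < Nat.card (MulAction.fixedPoints T V) := Nat.card_pos_iff.2 ⟨⟨⟨1, hone⟩⟩, this⟩
    omega
  obtain ⟨a, b, hab⟩ := (Finite.one_lt_card_iff_nontrivial.1 h4).exists_pair_ne
  have h6 : ∃ x : MulAction.fixedPoints T V, (x : V) ≠ 1 := by
    by_cases ha : (a : V) = 1
    · exact ⟨b, fun hb => hab (Subtype.ext (ha.trans hb.symm))⟩
    · exact ⟨a, ha⟩
  obtain ⟨x, hx⟩ := h6
  refine ⟨x.1, x.1.2, fun h => hx (Subtype.ext h), fun t ht => ?_⟩
  have := x.2 ⟨t, ht⟩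
  exact congrArg Subtype.val this

variable {ι : Type w} {V : Subgroup G} {R : ι → Subgroup G} {i j : ι} {F : Type v} [Field F]
  {v : F → F → G} {w1 w2 : F → G}

/-- the elements of `X` act as matrices -/
theorem exists_lin (c : Coord V R i j v w1 w2) (b : BT V R) {x : G} (hx : x ∈ XX V R) :
    ∃ p q r s : F, p * s - q * r = 1 ∧ ∀ d e, x * v d e * x⁻¹ = v (p * d + q * e) (r * d + s * e) := by
  let T : Subgroup G :=
    { carrier := {x | ∃ p q r s : F, p * s - q * r = 1 ∧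
        ∀ d e, x * v d e * x⁻¹ = v (p * d + q * e) (r * d + s * e)}
      one_mem' := ⟨1, 0, 0, 1, by ring, fun d e => by
        rw [one_mul, inv_one, mul_one]; congr 1 <;> ring⟩
      mul_mem' := by
        rintro x y ⟨p, q, r, s, h1, h2⟩ ⟨p', q', r', s', h3, h4⟩
        refine ⟨p * p' + q * r', p * q' + q * s', r * p' + s * r', r * q' + s * s', ?_, fun d e => ?_⟩
        · linear_combination (p' * s' - q' * r') * h1 + h3
        · have e1 : x * y * v d e * (x * y)⁻¹ = x * (y * v d e * y⁻¹) * x⁻¹ := by group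
          rw [e1, h4, h2]
          congr 1 <;> ring
      inv_mem' := by
        rintro x ⟨p, q, r, s, h1, h2⟩
        refine ⟨s, -q, -r, p, by linear_combination h1, fun d e => ?_⟩
        have h3 := h2 (s * d + -q * e) (-r * d + p * e)
        have h4 : p * (s * d + -q * e) + q * (-r * d + p * e) = d := by linear_combination d * h1
        have h5 : r * (s * d + -q * e) + s * (-r * d + p * e) = e := by linear_combination e * h1
        rw [h4, h5] at h3
        rw [← h3]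
        group }
  have hT : XX V R ≤ T := by
    rw [b.X_eq c.ne]
    refine sup_le (fun x hx => ?_) fun x hx => ?_
    · obtain ⟨a, ha⟩ := c.W1_act x hx
      refine ⟨1, a, 0, 1, by ring, fun d e => ?_⟩
      rw [ha]; congr 1 <;> ring
    · obtain ⟨a, ha⟩ := c.W2_act x hx
      refine ⟨1, 0, a, 1, by ring, fun d e => ?_⟩
      rw [ha]; congr 1 <;> ring
  exact hT hx

/-- `[X, C(V)] ≤ Y` -/
theorem comm_cen (b : BT V R) {x c : G} (hx : x ∈ XX V R) (hc : c ∈ centralizer (V : Set G)) :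
    x * c * x⁻¹ * c⁻¹ ∈ YY V R := by
  have h : XX V R ≤ cenMod (YY V R) (centralizer (V : Set G)) := by
    refine iSup_le fun k w hw => ⟨b.NV_le_NY (b.W_le_NV k hw), fun c hc => UU_le_YY k (mem_inf.2 ⟨?_, ?_⟩)⟩
    · have e : w * c * w⁻¹ * c⁻¹ = w * (c * w⁻¹ * c⁻¹) := by group
      rw [e]
      exact mul_mem hw (conj_mem_of_normalizer (b.cen_le_NW k hc) (inv_mem hw))
    · exact mul_mem (conj_mem_of_normalizer
        (normalizer_le_normalizer_centralizer V (b.W_le_NV k hw)) hc) (inv_mem hc)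
  exact (h hx).2 c hc

theorem two_pow_eq_one [CharP F 2] {p : F} {n : ℕ} (h : p ^ 2 ^ n = 1) : p = 1 := by
  have : Fact (Nat.Prime 2) := ⟨Nat.prime_two⟩
  have h1 : (p - 1) ^ 2 ^ n = 0 := by rw [sub_pow_char_pow, h, one_pow, sub_self]
  exact sub_eq_zero.1 (pow_eq_zero_iff (by positivity) |>.1 h1)

/-- a 2-element of `X` fixing the point `R i` acts on `V` as an element of `W i` -/
theorem exists_w1 [CharP F 2] (c : Coord V R i j v w1 w2) (b : BT V R) {x : G} (hx : x ∈ XX V R)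
    (hxR : x ∈ normalizer (R i : Set G)) {n : ℕ} (hn : x ^ 2 ^ n = 1) :
    ∃ q : F, (w1 q)⁻¹ * x ∈ centralizer (V : Set G) := by
  obtain ⟨p, q, r, s, h1, h2⟩ := exists_lin c b hx
  -- `r = 0`
  have hr : r = 0 := by
    have h3 : x * v 1 0 * x⁻¹ ∈ R i := conj_mem_of_normalizer hxR ((c.mem_R1 _).2 ⟨1, rfl⟩)
    rw [h2, c.mem_R1] at h3
    obtain ⟨d, hd⟩ := h3
    have h4 := (c.v_inj hd).2
    linear_combination -h4
  subst hr
  -- powers
  have hpow : ∀ m : ℕ, ∀ d, x ^ m * v d 0 * (x ^ m)⁻¹ = v (p ^ m * d) 0 := by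
    intro m
    induction m with
    | zero => intro d; simp
    | succ m ih =>
      intro d
      have e : x ^ (m + 1) * v d 0 * (x ^ (m + 1))⁻¹ = x ^ m * (x * v d 0 * x⁻¹) * (x ^ m)⁻¹ := by
        rw [pow_succ]; group
      have h3 := h2 d 0
      have h4 : p * d + q * 0 = p * d := by ring
      have h5 : (0 : F) * d + s * 0 = 0 := by ring
      rw [h4, h5] at h3
      rw [e, h3, ih]
      congr 1
      ring
  have hp : p = 1 := by
    have h3 := hpow (2 ^ n) 1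
    rw [hn, one_mul, inv_one, mul_one] at h3
    have h4 := (c.v_inj h3).1
    exact two_pow_eq_one (n := n) (by linear_combination -h4)
  subst hp
  have hs : s = 1 := by linear_combination h1
  subst hs
  refine ⟨q, ?_⟩
  rw [mem_centralizer_iff]
  intro y hy
  obtain ⟨d, e, rfl⟩ := (c.mem_V y).1 hy
  have h3 := h2 d e
  have h4 : (1 : F) * d + q * e = d + q * e := by ring
  have h5 : (0 : F) * d + 1 * e = e := by ring
  rw [h4, h5, ← c.w1_act] at h3
  -- `x v x⁻¹ = w v w⁻¹`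
  calc v d e * ((w1 q)⁻¹ * x) = (w1 q)⁻¹ * (w1 q * v d e * (w1 q)⁻¹) * x := by group
    _ = (w1 q)⁻¹ * (x * v d e * x⁻¹) * x := by rw [h3]
    _ = (w1 q)⁻¹ * x * v d e := by group

section quotient

variable [Finite G] [CharP F 2]

theorem Y_isPGroup (b : BT V R) : IsPGroup 2 (YY V R) := by
  rintro ⟨y, hy⟩
  refine ⟨2, Subtype.ext ?_⟩
  change y ^ 4 = 1
  have h1 := b.D_sq (b.Y_sq hy)
  have e : y ^ 4 = y * y * (y * y) := by simp only [pow_succ, pow_zero, one_mul, mul_assoc]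
  rw [e, h1]

/-- an element of `W i` is a commutator `[h, w]` modulo `Y` -/
theorem exists_comm_mod (c : Coord V R i j v w1 w2) (b : BT V R) {a : F} (ha : a ≠ 0) (ha1 : a ≠ 1) {x : G}
    (hx : x ∈ WW V (R i)) : ∃ h ∈ XX V R, ∃ w ∈ WW V (R i), (h * w * h⁻¹ * w⁻¹)⁻¹ * x ∈ YY V R := by
  obtain ⟨q, hq⟩ := c.W1_act x hx
  have ha2 : a ^ 2 - 1 ≠ 0 := by
    intro h0
    apply ha1
    have h1 : a ^ 2 ^ 1 = 1 := by rw [pow_one]; linear_combination h0
    exact two_pow_eq_one h1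
  set q' := q / (a ^ 2 - 1) with hq'
  have hqq : a ^ 2 * q' - q' = q := by rw [hq']; field_simp
  have hhX := c.hh_mem_X b a
  refine ⟨hh w1 w2 a, hhX, w1 q', c.w1_mem q', ?_⟩
  have hW : hh w1 w2 a * w1 q' * (hh w1 w2 a)⁻¹ ∈ WW V (R i) := by
    have h1 := conj_mem_cj (g := hh w1 w2 a) (c.w1_mem q')
    rwa [b.cj_WW (c.hh_R1 b ha)] at h1
  refine UU_le_YY i (mem_inf.2 ⟨mul_mem (inv_mem (mul_mem hW (inv_mem (c.w1_mem _)))) hx, ?_⟩)
  rw [mem_centralizer_iff]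
  intro y hy
  obtain ⟨d, e, rfl⟩ := (c.mem_V y).1 hy
  -- the action of the commutator
  have h1 : ∀ d e, (hh w1 w2 a * w1 q' * (hh w1 w2 a)⁻¹ * (w1 q')⁻¹) * v d e *
      (hh w1 w2 a * w1 q' * (hh w1 w2 a)⁻¹ * (w1 q')⁻¹)⁻¹ = v (d + q * e) e := by
    intro d e
    have h2 : (w1 q')⁻¹ * v d e * w1 q' = v (d - q' * e) e := by
      have h3 := c.w1_act q' (d - q' * e) e
      rw [sub_add_cancel] at h3
      rw [← h3]; group
    have h3 := c.hh_w1_act b ha q' (c.v_mem (d - q' * e) e)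
    rw [c.w1_act] at h3
    have e1 : (hh w1 w2 a * w1 q' * (hh w1 w2 a)⁻¹ * (w1 q')⁻¹) * v d e *
        (hh w1 w2 a * w1 q' * (hh w1 w2 a)⁻¹ * (w1 q')⁻¹)⁻¹ =
        (hh w1 w2 a * w1 q' * (hh w1 w2 a)⁻¹) * ((w1 q')⁻¹ * v d e * w1 q') *
          (hh w1 w2 a * w1 q' * (hh w1 w2 a)⁻¹)⁻¹ := by group
    rw [e1, h2, h3]
    congr 1
    linear_combination e * hqq
  have h2 := hq d e
  rw [← h1] at h2
  set k := hh w1 w2 a * w1 q' * (hh w1 w2 a)⁻¹ * (w1 q')⁻¹
  calc v d e * (k⁻¹ * x) = k⁻¹ * (k * v d e * k⁻¹) * x := by group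
    _ = k⁻¹ * (x * v d e * x⁻¹) * x := by rw [h2]
    _ = k⁻¹ * x * v d e := by group

/-- `C_X(V) / Y` has no involution -/
theorem mem_Y_of_sq (c : Coord V R i j v w1 w2) (b : BT V R) {a : F} (ha : a ≠ 0) (ha1 : a ≠ 1) {z : G}
    (hz : z ∈ XX V R) (hzV : z ∈ centralizer (V : Set G)) (hzz : z * z ∈ YY V R) : z ∈ YY V R := by
  have : Fact (Nat.Prime 2) := ⟨Nat.prime_two⟩
  have hYX : YY V R ≤ XX V R := YY_le_XX
  have hXY : XX V R ≤ normalizer (YY V R : Set G) := b.X_le_NV.trans b.NV_le_NY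
  set N := (YY V R).subgroupOf (XX V R) with hN
  have hNn : N.Normal :=
    ⟨fun n hn g => conj_mem_of_normalizer (g := (g : G)) (x := (n : G)) (hXY g.2) hn⟩
  let J := (XX V R : Subgroup G) ⧸ N
  let π : (XX V R : Subgroup G) →* J := QuotientGroup.mk' N
  have hπ1 : ∀ x : (XX V R : Subgroup G), π x = 1 ↔ (x : G) ∈ YY V R := fun x =>
    (QuotientGroup.eq_one_iff x).trans mem_subgroupOf
  -- `J` is perfect
  have hW : ∀ k l (v' : F → F → G) (w1' w2' : F → G), Coord V R k l v' w1' w2' →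
      ∀ x (hx : x ∈ WW V (R k)), π ⟨x, W_le_X V R k hx⟩ ∈ _root_.commutator J := by
    intro k l v' w1' w2' c' x hx
    obtain ⟨h, hh, w, hw, e⟩ := exists_comm_mod c' b ha ha1 hx
    have hwX := W_le_X V R k hw
    have h1 : π ⟨x, W_le_X V R k hx⟩ = ⁅π ⟨h, hh⟩, π ⟨w, hwX⟩⁆ := by
      rw [commutatorElement_def, ← map_inv, ← map_inv, ← map_mul, ← map_mul, ← map_mul, eq_comm,
        ← inv_mul_eq_one, ← map_inv, ← map_mul, hπ1]
      exact e
    rw [h1]
    exact commutator_mem_commutator (mem_top _) (mem_top _)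
  have hJ : _root_.commutator J = ⊤ := by
    rw [eq_top_iff]
    rintro y -
    obtain ⟨x, rfl⟩ := QuotientGroup.mk_surjective y
    let K : Subgroup G := ((_root_.commutator J).comap π).map (XX V R).subtype
    have hK : XX V R ≤ K := by
      rw [b.X_eq c.ne]
      refine sup_le (fun x hx => ?_) fun x hx => ?_
      · exact ⟨⟨x, W_le_X V R i hx⟩, hW i j v w1 w2 c x hx, rfl⟩
      · exact ⟨⟨x, W_le_X V R j hx⟩, hW j i _ w2 w1 c.symm x hx, rfl⟩
    obtain ⟨x', hx', e⟩ := hK x.2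
    have : x' = x := Subtype.ext e
    rw [← this]
    exact hx'
  -- the central involution
  set z' : J := π ⟨z, hz⟩ with hz'
  have hzc : z' ∈ center J := by
    rw [mem_center_iff]
    intro y
    obtain ⟨x, rfl⟩ := QuotientGroup.mk_surjective y
    change π x * π ⟨z, hz⟩ = π ⟨z, hz⟩ * π x
    rw [← mul_inv_eq_one, mul_inv_rev, ← map_inv, ← map_inv, ← map_mul, ← map_mul, ← map_mul, hπ1]
    have e : ((x * ⟨z, hz⟩ * (x⁻¹ * (⟨z, hz⟩ : (XX V R : Subgroup G))⁻¹) : (XX V R : Subgroup G)) : G) =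
        x * z * (x : G)⁻¹ * z⁻¹ := by push_cast; group
    rw [e]
    exact comm_cen b x.2 hzV
  have hz2 : z' ^ 2 = 1 := by
    rw [hz', ← map_pow, hπ1, pow_two]
    exact hzz
  -- a 2-subgroup containing `z'` and the image of `W i`
  let W' : Subgroup J := ((WW V (R i)).subgroupOf (XX V R)).map π
  have hW'2 : IsPGroup 2 W' := ((b.W_isPGroup i).comap_of_injective _ (subtype_injective _)).map _
  have hz'2 : IsPGroup 2 (zpowers z') := by
    rintro ⟨y, hy⟩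
    obtain ⟨m, rfl⟩ := mem_zpowers_iff.1 hy
    refine ⟨1, Subtype.ext ?_⟩
    change (z' ^ m) ^ (2 ^ 1) = 1
    rw [pow_one, ← zpow_natCast, ← zpow_mul, mul_comm, zpow_mul, zpow_natCast, hz2, one_zpow]
  have hzn : (zpowers z').Normal := ⟨fun n hn g => by
    have h1 : n ∈ center J := (zpowers_le.2 hzc) hn
    rw [mem_center_iff.1 h1 g, mul_inv_cancel_right]
    exact hn⟩
  have hT : IsPGroup 2 (W' ⊔ zpowers z' : Subgroup J) := hW'2.to_sup_of_normal_right hz'2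
  obtain ⟨Q, hQ⟩ := hT.exists_le_sylow
  have hWQ : W' ≤ Q := le_sup_left.trans hQ
  have hzQ : z' ∈ (Q : Subgroup J) := hQ ((le_sup_right : zpowers z' ≤ _) (mem_zpowers z'))
  -- the preimage
  let P : Subgroup G := ((Q : Subgroup J).comap π).map (XX V R).subtype
  have hP2 : IsPGroup 2 P := by
    refine IsPGroup.map (IsPGroup.comap_of_ker_isPGroup Q.isPGroup' π ?_) _
    have hker : π.ker = N := QuotientGroup.ker_mk' N
    rw [hker]
    exact (Y_isPGroup b).comap_of_injective _ (subtype_injective _)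
  have hPX : P ≤ XX V R := map_subtype_le _
  have hWP : WW V (R i) ≤ P := fun x hx =>
    ⟨⟨x, W_le_X V R i hx⟩, hWQ ⟨⟨x, W_le_X V R i hx⟩, hx, rfl⟩, rfl⟩
  have hV2 : IsPGroup 2 V := (b.W_isPGroup i).to_le (V_le_WW V (R i))
  have hV1 : V ≠ ⊥ := by
    obtain ⟨y, hy, hy1⟩ := b.exists_ne i
    intro h
    have h2 := b.R_le i hy
    rw [h, mem_bot] at h2
    exact hy1 h2
  obtain ⟨v0, hv0, hv01, hfix⟩ := exists_fixed hV2 hV1 hP2 (hPX.trans b.X_le_NV)
  have hv0R : v0 ∈ R i := by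
    obtain ⟨d, e, rfl⟩ := (c.mem_V v0).1 hv0
    have h1 := hfix _ (hWP (c.w1_mem 1))
    rw [c.w1_act] at h1
    have h2 := (c.v_inj h1).1
    have he : e = 0 := by linear_combination h2
    rw [he]
    exact (c.mem_R1 _).2 ⟨d, rfl⟩
  have hPR : P ≤ normalizer (R i : Set G) := by
    intro x hx
    obtain ⟨k, hk⟩ := b.perm x (b.X_le_NV (hPX hx)) i
    have h1 : v0 ∈ R k := by
      rw [← hk, ← hfix x hx]
      exact conj_mem_cj hv0R
    have h2 : k = i := by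
      by_contra hne
      exact hv01 (b.eq_one hne h1 hv0R)
    rw [h2] at hk
    exact cj_eq_self_iff.1 hk
  -- `Q` is abelian
  have hab : ∀ x ∈ P, ∀ y ∈ P, x * y * x⁻¹ * y⁻¹ ∈ YY V R := by
    have key : ∀ x ∈ P, ∃ w ∈ WW V (R i), ∃ e ∈ centralizer (V : Set G), e ∈ XX V R ∧ x = w * e := by
      intro x hx
      obtain ⟨n, hn⟩ := hP2 ⟨x, hx⟩
      have hn' : x ^ 2 ^ n = 1 := congrArg Subtype.val hn
      obtain ⟨q, hq⟩ := exists_w1 c b (hPX hx) (hPR hx) hn'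
      exact ⟨w1 q, c.w1_mem q, _, hq, mul_mem (inv_mem (W_le_X V R i (c.w1_mem q))) (hPX hx), by group⟩
    rintro x hx y hy
    obtain ⟨w, hw, e, he, heX, rfl⟩ := key x hx
    obtain ⟨w', hw', e', he', heX', rfl⟩ := key y hy
    have hwX := W_le_X V R i hw
    have hwX' := W_le_X V R i hw'
    -- in `J`
    have hce : ∀ (u : G) (hu : u ∈ XX V R), u ∈ centralizer (V : Set G) → ∀ y : J, y * π ⟨u, hu⟩ = π ⟨u, hu⟩ * y := by
      intro u hu huV y
      obtain ⟨x, rfl⟩ := QuotientGroup.mk_surjective y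
      change π x * π ⟨u, hu⟩ = π ⟨u, hu⟩ * π x
      rw [← mul_inv_eq_one, mul_inv_rev, ← map_inv, ← map_inv, ← map_mul, ← map_mul, ← map_mul, hπ1]
      have e : ((x * ⟨u, hu⟩ * (x⁻¹ * (⟨u, hu⟩ : (XX V R : Subgroup G))⁻¹) : (XX V R : Subgroup G)) : G) =
          x * u * (x : G)⁻¹ * u⁻¹ := by push_cast; group
      rw [e]
      exact comm_cen b x.2 huV
    have h1 := hce e heX he
    have h2 := hce e' heX' he'
    have h3 : π ⟨w, hwX⟩ * π ⟨w', hwX'⟩ = π ⟨w', hwX'⟩ * π ⟨w, hwX⟩ := by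
      rw [← mul_inv_eq_one, mul_inv_rev, ← map_inv, ← map_inv, ← map_mul, ← map_mul, ← map_mul, hπ1]
      have e3 : (((⟨w, hwX⟩ : (XX V R : Subgroup G)) * ⟨w', hwX'⟩ * ((⟨w, hwX⟩ : (XX V R : Subgroup G))⁻¹ *
          (⟨w', hwX'⟩ : (XX V R : Subgroup G))⁻¹) : (XX V R : Subgroup G)) : G) = w * w' * w⁻¹ * w'⁻¹ := by
        push_cast; group
      rw [e3]
      exact b.D_le_Y (V_le_D V R (b.R_le i (b.WW_comm i hw hw')))
    have h4 : π ⟨w, hwX⟩ * π ⟨e, heX⟩ * (π ⟨w', hwX'⟩ * π ⟨e', heX'⟩) =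
        π ⟨w', hwX'⟩ * π ⟨e', heX'⟩ * (π ⟨w, hwX⟩ * π ⟨e, heX⟩) := by
      calc π ⟨w, hwX⟩ * π ⟨e, heX⟩ * (π ⟨w', hwX'⟩ * π ⟨e', heX'⟩)
          = π ⟨w, hwX⟩ * (π ⟨e, heX⟩ * π ⟨w', hwX'⟩) * π ⟨e', heX'⟩ := by simp only [mul_assoc]
        _ = π ⟨w, hwX⟩ * (π ⟨w', hwX'⟩ * π ⟨e, heX⟩) * π ⟨e', heX'⟩ := by rw [h1]
        _ = (π ⟨w, hwX⟩ * π ⟨w', hwX'⟩) * (π ⟨e, heX⟩ * π ⟨e', heX'⟩) := by simp only [mul_assoc]
        _ = (π ⟨w', hwX'⟩ * π ⟨w, hwX⟩) * (π ⟨e', heX'⟩ * π ⟨e, heX⟩) := by rw [h3, h2]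
        _ = π ⟨w', hwX'⟩ * (π ⟨w, hwX⟩ * π ⟨e', heX'⟩) * π ⟨e, heX⟩ := by simp only [mul_assoc]
        _ = π ⟨w', hwX'⟩ * (π ⟨e', heX'⟩ * π ⟨w, hwX⟩) * π ⟨e, heX⟩ := by rw [h2]
        _ = _ := by simp only [mul_assoc]
    rw [← map_mul, ← map_mul, ← map_mul, ← map_mul, ← mul_inv_eq_one, ← map_inv, ← map_mul, hπ1] at h4
    have e4 : w * e * (w' * e') * (w * e)⁻¹ * (w' * e')⁻¹ =
        (((⟨w, hwX⟩ : (XX V R : Subgroup G)) * ⟨e, heX⟩ * (⟨w', hwX'⟩ * ⟨e', heX'⟩) *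
          ((⟨w', hwX'⟩ : (XX V R : Subgroup G)) * ⟨e', heX'⟩ * (⟨w, hwX⟩ * ⟨e, heX⟩))⁻¹ :
            (XX V R : Subgroup G)) : G) := by
      push_cast; group
    rw [e4]
    exact h4
  have hQc : ⁅(Q : Subgroup J), (Q : Subgroup J)⁆ = ⊥ := by
    rw [commutator_eq_bot_iff_le_centralizer]
    intro x hx
    rw [mem_centralizer_iff]
    intro y hy
    obtain ⟨x, rfl⟩ := QuotientGroup.mk_surjective x
    obtain ⟨y, rfl⟩ := QuotientGroup.mk_surjective y
    have hxP : (x : G) ∈ P := ⟨x, hx, rfl⟩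
    have hyP : (y : G) ∈ P := ⟨y, hy, rfl⟩
    have h1 := hab y hyP x hxP
    change π y * π x = π x * π y
    rw [← mul_inv_eq_one, mul_inv_rev, ← map_inv, ← map_inv, ← map_mul, ← map_mul, ← map_mul, hπ1]
    have e : ((y * x * (y⁻¹ * x⁻¹) : (XX V R : Subgroup G)) : G) = y * x * (y : G)⁻¹ * (x : G)⁻¹ := by
      push_cast; group
    rw [e]
    exact h1
  have h1 := mem_commutator_of_center hJ Q hzc hzQ
  rw [hQc, mem_bot, hz', hπ1] at h1
  exact h1

/-- **the field `odd₁`** -/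
theorem odd_stab (c : Coord V R i j v w1 w2) (b : BT V R) {a : F} (ha : a ≠ 0) (ha1 : a ≠ 1) :
    Odd ((WW V (R i) ⊔ YY V R).relIndex (XX V R ⊓ normalizer (R i : Set G))) := by
  have : Fact (Nat.Prime 2) := ⟨Nat.prime_two⟩
  set U := WW V (R i) ⊔ YY V R with hU
  set A := XX V R ⊓ normalizer (R i : Set G) with hA
  have hYR : YY V R ≤ normalizer (R i : Set G) := YY_le_cen.trans (b.cen_le_N i)
  have hUA : U ≤ A := sup_le (le_inf (W_le_X V R i) (b.W_le_N i)) (le_inf YY_le_XX hYR)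
  have hAU : A ≤ normalizer (U : Set G) := by
    intro g hg
    obtain ⟨h1, h2⟩ := mem_inf.1 hg
    rw [← cj_eq_self_iff, hU, cj_sup, cj_eq_self_iff.2 (normalizer_le_WW V (R i) h2),
      cj_eq_self_iff.2 (b.NV_le_NY (b.X_le_NV h1))]
  have hn : (U.subgroupOf A).Normal :=
    ⟨fun n hn g => conj_mem_of_normalizer (g := (g : G)) (x := (n : G)) (hAU g.2) hn⟩
  have hU2 : IsPGroup 2 U := (b.W_isPGroup i).to_sup_of_normal_right' (Y_isPGroup b)
    ((b.W_le_NV i).trans b.NV_le_NY)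
  have hWY : ∀ u ∈ U, ∃ w ∈ WW V (R i), ∃ y ∈ YY V R, u = w * y := by
    intro u hu
    exact exists_mul_of_le (YY_le_cen.trans (b.cen_le_NW i)) hu
  by_contra hodd
  rw [Nat.not_odd_iff_even, even_iff_two_dvd] at hodd
  have hodd' : 2 ∣ Nat.card (A ⧸ U.subgroupOf A) := hodd
  obtain ⟨g', hg'⟩ := exists_prime_orderOf_dvd_card' 2 hodd'
  obtain ⟨g, rfl⟩ := QuotientGroup.mk_surjective g'
  have hgU : (g : G) ∉ U := by
    intro h
    have h1 : (QuotientGroup.mk g : A ⧸ U.subgroupOf A) = 1 := (QuotientGroup.eq_one_iff g).2 h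
    rw [h1, orderOf_one] at hg'
    norm_num at hg'
  have hgg : (g : G) * g ∈ U := by
    have h1 : (QuotientGroup.mk g : A ⧸ U.subgroupOf A) ^ 2 = 1 := by rw [← hg', pow_orderOf_eq_one]
    rw [← QuotientGroup.mk_pow, QuotientGroup.eq_one_iff, mem_subgroupOf, pow_two] at h1
    exact h1
  obtain ⟨hgX, hgR⟩ := mem_inf.1 g.2
  obtain ⟨n, hn'⟩ := hU2 ⟨_, hgg⟩
  have hn2 : ((g : G) * g) ^ 2 ^ n = 1 := congrArg Subtype.val hn'
  have hg2 : (g : G) ^ 2 ^ (n + 1) = 1 := by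
    rw [pow_succ, mul_comm (2 ^ n) 2, pow_mul, pow_two]
    exact hn2
  obtain ⟨q, hq⟩ := exists_w1 c b hgX hgR hg2
  set z := (w1 q)⁻¹ * (g : G) with hz
  have hzX : z ∈ XX V R := mul_mem (inv_mem (W_le_X V R i (c.w1_mem q))) hgX
  have hw1U : w1 q ∈ U := (le_sup_left : WW V (R i) ≤ U) (c.w1_mem q)
  have hgz : (g : G) = w1 q * z := by rw [hz]; group
  -- `z² ∈ Y`
  have hy := comm_cen b (W_le_X V R i (c.w1_mem q)) hq
  have hzz : z * z ∈ YY V R := by
    have h1 : z * z ∈ U := by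
      have h2 : (g : G) * g = w1 q * (w1 q * z * (w1 q)⁻¹ * z⁻¹)⁻¹ * w1 q * (z * z) := by
        rw [hgz]; group
      have h3 : z * z = (w1 q * (w1 q * z * (w1 q)⁻¹ * z⁻¹)⁻¹ * w1 q)⁻¹ * ((g : G) * g) := by
        rw [h2]; group
      rw [h3]
      exact mul_mem (inv_mem (mul_mem (mul_mem hw1U (inv_mem ((le_sup_right : YY V R ≤ U) hy))) hw1U)) hgg
    obtain ⟨w, hw, y, hy', e⟩ := hWY _ h1
    have h2 : w ∈ centralizer (V : Set G) := by
      have h3 : w = z * z * y⁻¹ := by rw [e]; group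
      rw [h3]
      exact mul_mem (mul_mem hq hq) (inv_mem (YY_le_cen hy'))
    rw [e]
    exact mul_mem (UU_le_YY i (mem_inf.2 ⟨hw, h2⟩)) hy'
  have hzY := mem_Y_of_sq c b ha ha1 hzX hq hzz
  apply hgU
  rw [hgz]
  exact mul_mem hw1U ((le_sup_right : YY V R ≤ U) hzY)

/-- **the field `t₁`** -/
theorem exists_torus (c : Coord V R i j v w1 w2) (b : BT V R) {a : F} (ha : a ≠ 0) (ha1 : a ≠ 1) :
    ∃ t ∈ XX V R, t ∈ normalizer (R i : Set G) ∧ Odd (orderOf t) ∧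
      ∀ w ∈ WW V (R i), t * w * t⁻¹ * w⁻¹ ∈ YY V R → w ∈ YY V R := by
  obtain ⟨m, k, hk, hmk⟩ := Nat.exists_eq_two_pow_mul_odd (orderOf_pos (hh w1 w2 a)).ne'
  set h := hh w1 w2 a with hh
  have hX : h ∈ XX V R := c.hh_mem_X b a
  have hR : h ∈ normalizer (R i : Set G) := cj_eq_self_iff.1 (c.hh_R1 b ha)
  refine ⟨h ^ 2 ^ m, pow_mem hX _, pow_mem hR _, ?_, ?_⟩
  · rw [orderOf_pow' h (by positivity), hmk, Nat.gcd_mul_right_left, Nat.mul_div_cancel_left _ (by positivity)]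
    exact hk
  -- the action
  have hpow : ∀ n : ℕ, ∀ d e, h ^ n * v d e * (h ^ n)⁻¹ = v (a ^ n * d) ((a ^ n)⁻¹ * e) := by
    intro n
    induction n with
    | zero => intro d e; simp
    | succ n ih =>
      intro d e
      have e1 : h ^ (n + 1) * v d e * (h ^ (n + 1))⁻¹ = h ^ n * (h * v d e * h⁻¹) * (h ^ n)⁻¹ := by
        rw [pow_succ]; group
      rw [e1, c.hh_act ha, ih]
      congr 1
      · ring
      · rw [pow_succ, mul_inv]; ring
  set a' := a ^ 2 ^ m with ha'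
  have ha'0 : a' ≠ 0 := pow_ne_zero _ ha
  have ha'1 : a' ^ 2 - 1 ≠ 0 := by
    intro h0
    apply ha1
    have h1 : a ^ 2 ^ (m + 1) = 1 := by
      rw [pow_succ, pow_mul]
      linear_combination h0
    exact two_pow_eq_one h1
  intro w hw hc
  obtain ⟨s, hs⟩ := c.W1_act w hw
  refine UU_le_YY i (mem_inf.2 ⟨hw, ?_⟩)
  have hs0 : s = 0 := by
    set t := h ^ 2 ^ m with ht
    have h1 := hpow (2 ^ m)
    rw [← ht, ← ha'] at h1
    -- `t w t⁻¹` acts as `w`
    have h2 : (t * w * t⁻¹) * v 0 1 * (t * w * t⁻¹)⁻¹ = w * v 0 1 * w⁻¹ := by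
      have h3 := mem_centralizer_iff.1 (YY_le_cen hc) (w * v 0 1 * w⁻¹)
        (conj_mem_of_normalizer (b.W_le_NV i hw) (c.v_mem 0 1))
      calc (t * w * t⁻¹) * v 0 1 * (t * w * t⁻¹)⁻¹
          = (t * w * t⁻¹ * w⁻¹) * (w * v 0 1 * w⁻¹) * (t * w * t⁻¹ * w⁻¹)⁻¹ := by group
        _ = (w * v 0 1 * w⁻¹) * (t * w * t⁻¹ * w⁻¹) * (t * w * t⁻¹ * w⁻¹)⁻¹ := by rw [h3]
        _ = w * v 0 1 * w⁻¹ := by group
    have h3 : (t * w * t⁻¹) * v 0 1 * (t * w * t⁻¹)⁻¹ = t * (w * (t⁻¹ * v 0 1 * t) * w⁻¹) * t⁻¹ := by group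
    have h4 : t⁻¹ * v 0 1 * t = v 0 a' := by
      have h5 := h1 0 a'
      rw [mul_zero, inv_mul_cancel₀ ha'0] at h5
      rw [← h5]; group
    rw [h3, h4, hs, h1, hs] at h2
    have h5 := (c.v_inj h2).1
    have h6 : s * (a' ^ 2 - 1) = 0 := by linear_combination h5
    exact (mul_eq_zero.1 h6).resolve_right ha'1
  rw [mem_centralizer_iff]
  intro y hy
  obtain ⟨d, e, rfl⟩ := (c.mem_V y).1 hy
  have h1 := hs d e
  rw [hs0, zero_mul, add_zero, mul_inv_eq_iff_eq_mul] at h1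
  exact h1.symm

end quotient

end Cfsg.Agent.Omega.Hex

end

section


/-!
# `PLoc` from `K / W = SL₂(k)`

`PLoc.of_kd`: `BTC`, `Coord`, `KD`, `N_{N(R)}(W Y) ≤ N(V)`, `(E2)`, `(E4)` of bb OMEGA #12947 give `PLoc V R i K |k|`.
-/

set_option autoImplicit false
set_option linter.dupNamespace false
set_option linter.unusedSectionVars false

universe u v w

namespace Cfsg.Agent.Omega.Hex

open Subgroup Cfsg.Agent.Omega.BTwo Cfsg.Agent.Omega.SQEnd Cfsg.Agent.Lib.SL2Mat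
open scoped Pointwise

variable {G : Type u} [Group G] {ι : Type v}

theorem exists_ne_one {F : Type*} [Field F] [Finite F] (h : 4 ≤ Nat.card F) : ∃ a : F, a ≠ 0 ∧ a ≠ 1 := by
  classical
  have _ := Fintype.ofFinite F
  rw [Nat.card_eq_fintype_card] at h
  by_contra hc
  push Not at hc
  have h1 : (Finset.univ : Finset F) ⊆ {0, 1} := by
    intro x _
    by_cases hx : x = 0
    · simp [hx]
    · simp [hc x hx]
  have h2 := Finset.card_le_card h1
  rw [Finset.card_univ] at h2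
  have h3 : ({0, 1} : Finset F).card ≤ 2 := Finset.card_le_two
  omega

/-- `K / W = SL₂(k)` and `N_{N(R)}(W Y) ≤ N(V)` -/
structure KIn (V : Subgroup G) (R : ι → Subgroup G) (i j : ι) {k : Type w} [Field k] (K : Subgroup G)
    (φ : K →* Matrix.SpecialLinearGroup (Fin 2) k) : Prop where
  kd : KD V R i j K φ
  NA : ∀ g ∈ normalizer (R i : Set G), cj g (WW V (R i) ⊔ UU V R j) = WW V (R i) ⊔ UU V R j → cj g V = V

namespace KIn

variable {V : Subgroup G} {R : ι → Subgroup G} {i j : ι} {k : Type w} [Field k] {K : Subgroup G}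
  {φ : K →* Matrix.SpecialLinearGroup (Fin 2) k} (n : KIn V R i j K φ) (b : BT V R)
include n

theorem UK : UU V R j ≤ K := n.kd.UK

include b

theorem UZ_eq : WW V (R i) ⊔ YY V R = WW V (R i) ⊔ UU V R j := by
  rw [b.Y_eq n.kd.ne, ← sup_assoc, sup_eq_left.2 (UU_le_WW i)]

omit n b in
theorem mat_iff {A : Matrix.SpecialLinearGroup (Fin 2) k} :
    (∃ x : k, (A : Matrix (Fin 2) (Fin 2) k) = !![1, x; 0, 1]) ↔ A ∈ upG k := by
  constructor
  · rintro ⟨x, hx⟩
    rw [mem_upG]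
    constructor
    · show A.1 0 0 = 1
      rw [hx]; rfl
    · show A.1 1 0 = 0
      rw [hx]; rfl
  · rintro ⟨x, rfl⟩
    exact ⟨x, rfl⟩

theorem mem_UZ (g : K) : (g : G) ∈ WW V (R i) ⊔ YY V R ↔ φ g ∈ upG k := by
  rw [n.UZ_eq b, n.kd.uni, mat_iff]

theorem UZ_le : WW V (R i) ⊔ YY V R ≤ K := by
  rw [n.UZ_eq b]
  exact sup_le n.kd.WK n.UK

theorem Y_le : YY V R ≤ K := le_sup_right.trans (n.UZ_le b)

theorem K_le_NR : K ≤ normalizer (R i : Set G) := le_normalizer_of fun g hg a ha => by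
  rw [n.kd.KR g hg a ha, mul_inv_cancel_right]
  exact ha

theorem exists_U (x : k) : ∃ (y : G) (hy : y ∈ UU V R j), φ ⟨y, n.UK hy⟩ = up x := by
  obtain ⟨g, hg⟩ := n.kd.surj (up x)
  have h1 : (g : G) ∈ WW V (R i) ⊔ UU V R j := by
    rw [← n.UZ_eq b, n.mem_UZ b, hg]
    exact ⟨x, rfl⟩
  obtain ⟨w, hw, u, hu, e⟩ := exists_mul_of_le ((UU_le_cen j).trans (b.cen_le_NW i)) h1
  refine ⟨u, hu, ?_⟩
  have h2 : φ ⟨w, n.kd.WK hw⟩ = 1 := (n.kd.ker _).2 hw
  have h3 : g = ⟨w, n.kd.WK hw⟩ * ⟨u, n.UK hu⟩ := Subtype.ext e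
  rw [h3, map_mul, h2, one_mul] at hg
  exact hg

theorem Y_up {y : G} (hy : y ∈ YY V R) : ∃ x : k, φ ⟨y, n.Y_le b hy⟩ = up x :=
  (n.mem_UZ b ⟨y, n.Y_le b hy⟩).1 ((le_sup_right : YY V R ≤ _) hy)

/-- the preimage of the Borel subgroup normalises `V` -/
theorem mem_NV_of {g : K} (h : ent (φ g) 1 0 = 0) : (g : G) ∈ normalizer (V : Set G) := by
  rw [← cj_eq_self_iff]
  refine n.NA g (n.K_le_NR b g.2) ?_
  rw [← n.UZ_eq b]
  -- both inclusions
  have key : ∀ g : K, ent (φ g) 1 0 = 0 → cj (g : G) (WW V (R i) ⊔ YY V R) ≤ WW V (R i) ⊔ YY V R := by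
    intro g h
    rw [cj_le_iff]
    intro x hx
    have hxK := n.UZ_le b hx
    have h1 := (n.mem_UZ b ⟨x, hxK⟩).1 hx
    have h2 : φ (g * ⟨x, hxK⟩ * g⁻¹) ∈ upG k := by
      obtain ⟨a, ha⟩ := h1
      have hd := det_eq (φ g)
      rw [h, mul_zero, sub_zero] at hd
      rw [map_mul, map_mul, map_inv, ha, mem_upG, ent_inv]
      simp only [ent_mul, up_00, up_01, up_10, up_11, mk_00, mk_10, h]
      constructor
      · linear_combination hd
      · ring
    exact (n.mem_UZ b _).2 h2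
  apply le_antisymm (key g h)
  have h1 : ent (φ g⁻¹) 1 0 = 0 := by rw [map_inv, ent_inv, mk_10, h, neg_zero]
  have h2 := cj_mono (g := (g : G)) (key g⁻¹ h1)
  rwa [Subgroup.coe_inv, cj_cj_inv] at h2

/-- two elements outside the Borel subgroup -/
theorem exists_trans {x x' : K} (h : ent (φ x) 1 0 ≠ 0) (h' : ent (φ x') 1 0 ≠ 0) :
    ∃ y ∈ YY V R, (y * x)⁻¹ * x' ∈ normalizer (V : Set G) := by
  obtain ⟨y, hy, hφ⟩ := n.exists_U b (ent (φ x') 0 0 / ent (φ x') 1 0 - ent (φ x) 0 0 / ent (φ x) 1 0)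
  refine ⟨y, UU_le_YY j hy, ?_⟩
  have e : (y * x)⁻¹ * x' = (((⟨y, n.UK hy⟩ : K) * x)⁻¹ * x' : K) := rfl
  rw [e]
  apply n.mem_NV_of b
  rw [map_mul, map_inv, map_mul, hφ, ent_inv]
  simp only [ent_mul, up_00, up_01, up_10, up_11, mk_00, mk_01, mk_10, mk_11]
  field_simp
  ring

theorem frat [Finite G] [Finite k] [CharP k 2] {g : G} (hg : g ∈ normalizer (R i : Set G)) :
    ∃ x ∈ K, x⁻¹ * g ∈ normalizer (V : Set G) := by
  have : Fact (Nat.Prime 2) := ⟨Nat.prime_two⟩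
  set U := WW V (R i) ⊔ YY V R with hU
  have hUK : U ≤ K := n.UZ_le b
  have hgK : cj g K = K := cj_eq_self_iff.2 (n.kd.NK hg)
  have hUK' : cj g U ≤ K := by rw [← hgK]; exact cj_mono hUK
  have hU2 : IsPGroup 2 U := (b.W_isPGroup i).to_sup_of_normal_right' (by
    rintro ⟨y, hy⟩
    refine ⟨2, Subtype.ext ?_⟩
    change y ^ 4 = 1
    have h1 := b.D_sq (b.Y_sq hy)
    have e : y ^ 4 = y * y * (y * y) := by simp only [pow_succ, pow_zero, one_mul, mul_assoc]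
    rw [e, h1]) ((b.W_le_NV i).trans b.NV_le_NY)
  have hidx : (U.subgroupOf K).index = (upG k).index := by
    have h1 : U.subgroupOf K = (upG k).comap φ := by
      ext x
      rw [mem_subgroupOf, mem_comap]
      exact n.mem_UZ b x
    rw [h1]
    exact index_comap_of_surjective _ n.kd.surj
  have hodd : ¬ 2 ∣ (U.subgroupOf K).index := by
    rw [hidx]
    exact fun h => (Nat.not_even_iff_odd.2 odd_index_upG) (even_iff_two_dvd.2 h)
  have hcard : ∀ W : Subgroup G, W ≤ K → Nat.card (W.subgroupOf K) * (W.subgroupOf K).index = Nat.card K ∧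
      Nat.card (W.subgroupOf K) = Nat.card W := fun W hW =>
    ⟨(W.subgroupOf K).card_mul_index, Nat.card_congr (subgroupOfEquivOfLe hW).toEquiv⟩
  have hodd' : ¬ 2 ∣ ((cj g U).subgroupOf K).index := by
    obtain ⟨h1, h2⟩ := hcard U hUK
    obtain ⟨h3, h4⟩ := hcard (cj g U) hUK'
    rw [h4, card_cj, ← h2, ← h1] at h3
    rw [Nat.eq_of_mul_eq_mul_left Nat.card_pos h3]
    exact hodd
  let P : Sylow 2 K := (hU2.comap_of_injective _ K.subtype_injective : IsPGroup 2 (U.subgroupOf K)).toSylow hodd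
  let P' : Sylow 2 K := ((isPGroup_cj hU2).comap_of_injective _ K.subtype_injective :
    IsPGroup 2 ((cj g U).subgroupOf K)).toSylow hodd'
  obtain ⟨x, hx⟩ := MulAction.exists_smul_eq K P P'
  have h1 : MulAut.conj x • (P : Subgroup K) = (P' : Subgroup K) := congrArg (fun Q : Sylow 2 K => (Q : Subgroup K)) hx
  have h2 : cj (x : G) U = cj g U := by
    ext y
    constructor
    · intro hy
      have hyK : y ∈ K := by
        have := cj_mono (g := (x : G)) hUK hy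
        rwa [cj_of_mem x.2] at this
      have h3 : (⟨y, hyK⟩ : K) ∈ MulAut.conj x • (P : Subgroup K) := by
        rw [mem_pointwise_smul_iff_inv_smul_mem, ← map_inv, MulAut.smul_def, MulAut.conj_apply, inv_inv]
        exact (mem_cj.1 hy :)
      rw [h1] at h3
      exact h3
    · intro hy
      have hyK : y ∈ K := hUK' hy
      have h3 : (⟨y, hyK⟩ : K) ∈ (P' : Subgroup K) := hy
      rw [← h1, mem_pointwise_smul_iff_inv_smul_mem, ← map_inv, MulAut.smul_def, MulAut.conj_apply,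
        inv_inv] at h3
      exact mem_cj.2 h3
  refine ⟨x, x.2, ?_⟩
  rw [← cj_eq_self_iff]
  refine n.NA _ (mul_mem (inv_mem (n.K_le_NR b x.2)) hg) ?_
  rw [← n.UZ_eq b, cj_mul, ← h2, cj_inv_cj]

/-- the preimage of the Borel subgroup is `K ∩ N(V)` -/
theorem mem_NV_iff [Finite G] [Finite k] [CharP k 2] {g : K} :
    (g : G) ∈ normalizer (V : Set G) ↔ ent (φ g) 1 0 = 0 := by
  refine ⟨fun h => ?_, n.mem_NV_of b⟩
  by_contra hg
  have hK : K ≤ normalizer (V : Set G) := by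
    intro x hx
    by_cases h0 : ent (φ ⟨x, hx⟩) 1 0 = 0
    · exact n.mem_NV_of b (g := ⟨x, hx⟩) h0
    · obtain ⟨y, hy, e⟩ := n.exists_trans b hg h0
      have h1 : y * g ∈ normalizer (V : Set G) := mul_mem (PLoc.Y_NV hy) h
      have h2 := mul_mem h1 e
      rwa [mul_inv_cancel_left] at h2
  obtain ⟨h, hh, H⟩ := b.mt i
  obtain ⟨x, hx, hxg⟩ := n.frat b hh
  have h1 : h ∈ normalizer (V : Set G) := by
    have := mul_mem (hK hx) hxg
    rwa [mul_inv_cancel_left] at this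
  obtain ⟨j', hj, -⟩ := b.third i i
  obtain ⟨k', hki, hkj⟩ := b.third i j'
  obtain ⟨⟨v, hv, e⟩, -⟩ := H j' k' hj hki
  have h2 : h * v * h⁻¹ ∈ V := conj_mem_of_normalizer h1 hv
  have h3 : cj (h * v * h⁻¹) (R j') = R j' := by
    apply cj_eq_self_iff.2
    refine b.cen_le_N j' ?_
    rw [mem_centralizer_iff]
    exact fun a ha => b.V_comm a ha _ h2
  exact hkj (b.R_index (e.symm.trans h3))

theorem ker [Finite G] [Finite k] [CharP k 2] {x y : G} (hx : x ∈ K) (h : x ∉ normalizer (V : Set G))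
    (hy : y ∈ YY V R) (hyx : y ∈ cj x (normalizer (V : Set G))) : y ∈ WW V (R i) := by
  have hyK := n.Y_le b hy
  obtain ⟨t, ht⟩ := n.Y_up b hy
  have hx' : ent (φ ⟨x, hx⟩) 1 0 ≠ 0 := fun h0 => h (n.mem_NV_of b (g := ⟨x, hx⟩) h0)
  rw [mem_cj] at hyx
  have h1 := (n.mem_NV_iff b (g := (⟨x, hx⟩ : K)⁻¹ * ⟨y, hyK⟩ * ⟨x, hx⟩)).1 hyx
  rw [map_mul, map_mul, map_inv, ht, ent_inv] at h1
  simp only [ent_mul, up_00, up_01, up_10, up_11, mk_00, mk_01, mk_10, mk_11] at h1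
  have h2 : t * (ent (φ ⟨x, hx⟩) 1 0) ^ 2 = 0 := by linear_combination -h1
  have h3 : t = 0 := (mul_eq_zero.1 h2).resolve_right (pow_ne_zero 2 hx')
  rw [h3, up_zero] at ht
  exact (n.kd.ker _).1 ht

theorem torus [Finite G] [Finite k] [CharP k 2] {a : k} (ha : a ≠ 0) (ha1 : a ≠ 1) :
    ∃ t ∈ K, t ∈ normalizer (V : Set G) ∧ Odd (orderOf t) ∧
      ∀ y ∈ YY V R, t * y * t⁻¹ * y⁻¹ ∈ WW V (R i) → y ∈ WW V (R i) := by
  obtain ⟨t₀, ht₀⟩ := n.kd.surj (dg a ha)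
  obtain ⟨m, c, hc, hmc⟩ := Nat.exists_eq_two_pow_mul_odd (orderOf_pos (t₀ : G)).ne'
  have hpow : ∀ l : ℕ, ent (φ (t₀ ^ l)) 0 0 = a ^ l ∧ ent (φ (t₀ ^ l)) 0 1 = 0 ∧ ent (φ (t₀ ^ l)) 1 0 = 0 ∧
      ent (φ (t₀ ^ l)) 1 1 = (a ^ l)⁻¹ := by
    intro l
    induction l with
    | zero => simp
    | succ l ih =>
      obtain ⟨h1, h2, h3, h4⟩ := ih
      rw [pow_succ, map_mul, ht₀]
      simp only [ent_mul, h1, h2, h3, h4, dg_00, dg_01, dg_10, dg_11]
      refine ⟨by ring, by ring, by ring, ?_⟩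
      rw [pow_succ, mul_inv]; ring
  obtain ⟨h1, h2, h3, h4⟩ := hpow (2 ^ m)
  set t := t₀ ^ 2 ^ m with ht
  refine ⟨t, t.2, n.mem_NV_of b h3, ?_, fun y hy hyt => ?_⟩
  · have e : (t : G) = (t₀ : G) ^ 2 ^ m := by rw [ht]; rfl
    rw [e, orderOf_pow' _ (by positivity), hmc, Nat.gcd_mul_right_left, Nat.mul_div_cancel_left _ (by positivity)]
    exact hc
  · obtain ⟨s, hs⟩ := n.Y_up b hy
    have h5 : φ (t * ⟨y, n.Y_le b hy⟩ * t⁻¹ * (⟨y, n.Y_le b hy⟩ : K)⁻¹) = 1 := (n.kd.ker _).2 hyt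
    rw [map_mul, map_mul, map_mul, map_inv, map_inv, hs, mul_inv_eq_one, mul_inv_eq_iff_eq_mul] at h5
    have h6 := congrArg (fun A => ent A 0 1) h5
    simp only [ent_mul, up_00, up_01, up_10, up_11, h1, h2, h4] at h6
    have ha' : a ^ 2 ^ m ≠ 0 := pow_ne_zero _ ha
    set a' := a ^ 2 ^ m with ha'def
    have h7 : s * (a' ^ 2 - 1) = 0 := by
      field_simp at h6
      linear_combination h6
    have h8 : a' ^ 2 - 1 ≠ 0 := by
      intro h0
      apply ha1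
      have h9 : a ^ 2 ^ (m + 1) = 1 := by
        rw [pow_succ, pow_mul]
        linear_combination h0
      have : Fact (Nat.Prime 2) := ⟨Nat.prime_two⟩
      have h10 : (a - 1) ^ 2 ^ (m + 1) = 0 := by rw [sub_pow_char_pow, h9, one_pow, sub_self]
      exact sub_eq_zero.1 (pow_eq_zero_iff (by positivity) |>.1 h10)
    have h9 : s = 0 := (mul_eq_zero.1 h7).resolve_right h8
    rw [h9, up_zero] at hs
    exact (n.kd.ker _).1 hs

omit n b in
theorem card_upG [Finite k] : Nat.card (upG k) = Nat.card k := by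
  refine (Nat.card_eq_of_bijective (fun x : k => (⟨up x, ⟨x, rfl⟩⟩ : upG k)) ⟨?_, ?_⟩).symm
  · intro x y h
    exact up_inj (congrArg Subtype.val h)
  · rintro ⟨_, x, rfl⟩
    exact ⟨x, rfl⟩

/-- `|U i : D| = |k|` -/
theorem relIndex_D [Finite G] [Finite k] [CharP k 2] : (DD V R).relIndex (UU V R i) = Nat.card k := by
  rw [b.card_U i j]
  let f : UU V R j →* Matrix.SpecialLinearGroup (Fin 2) k := φ.comp (inclusion n.UK)
  have hker : f.ker = (DD V R).subgroupOf (UU V R j) := by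
    ext u
    rw [MonoidHom.mem_ker, mem_subgroupOf]
    change φ ⟨(u : G), n.UK u.2⟩ = 1 ↔ _
    rw [n.kd.ker, b.D_eq' n.kd.ne, mem_inf]
    exact ⟨fun h => ⟨h, UU_le_WW j u.2⟩, fun h => h.1⟩
  have hrange : f.range = upG k := by
    ext A
    constructor
    · rintro ⟨u, rfl⟩
      exact n.Y_up b (UU_le_YY j u.2)
    · rintro ⟨x, rfl⟩
      obtain ⟨y, hy, e⟩ := n.exists_U b x
      exact ⟨⟨y, hy⟩, e⟩
  have h1 : (DD V R).relIndex (UU V R j) = f.ker.index := by rw [hker]; rfl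
  rw [h1, index_ker, hrange, card_upG]

/-- `V^x` covers `W / U i` -/
theorem cov [Finite G] [Finite k] [CharP k 2] {x : G} (hx : x ∈ K) (h : x ∉ normalizer (V : Set G)) {m : G}
    (hm : m ∈ WW V (R i)) : ∃ v ∈ cj x V, v⁻¹ * m ∈ UU V R i := by
  obtain ⟨g, hg, H⟩ := b.mt i
  obtain ⟨a, ha, hag⟩ := n.frat b hg
  have hga : cj g V = cj a V := by
    have e1 : g = a * (a⁻¹ * g) := by group
    rw [e1, cj_mul, cj_eq_self_iff.2 hag]
  have haV : a ∉ normalizer (V : Set G) := by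
    intro h1
    obtain ⟨j', hj, -⟩ := b.third i i
    obtain ⟨k', hki, hkj⟩ := b.third i j'
    obtain ⟨⟨v, hv, e⟩, -⟩ := H j' k' hj hki
    have h2 : g * v * g⁻¹ ∈ V := by
      have := conj_mem_cj (g := g) hv
      rwa [hga, cj_eq_self_iff.2 h1] at this
    have h3 : cj (g * v * g⁻¹) (R j') = R j' := by
      apply cj_eq_self_iff.2
      refine b.cen_le_N j' ?_
      rw [mem_centralizer_iff]
      exact fun a ha => b.V_comm a ha _ h2
    exact hkj (b.R_index (e.symm.trans h3))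
  obtain ⟨y, hy, e2⟩ := n.exists_trans b (x := ⟨x, hx⟩) (x' := ⟨a, ha⟩)
    (fun h0 => h (n.mem_NV_of b (g := ⟨x, hx⟩) h0)) (fun h0 => haV (n.mem_NV_of b (g := ⟨a, ha⟩) h0))
  have e3 : a = y * (x * ((y * x)⁻¹ * a)) := by group
  have hyV : cj g V = cj y (cj x V) := by
    rw [hga]
    nth_rewrite 1 [e3]
    rw [cj_mul, cj_mul, cj_eq_self_iff.2 e2]
  have hyW : y ∈ normalizer (WW V (R i) : Set G) := b.cen_le_NW i (YY_le_cen hy)
  obtain ⟨v, hv, h3⟩ := b.W_fact (fun j k hj hk => (H j k hj hk).1) hg (conj_mem_of_normalizer hyW hm)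
  have h4 : g * v * g⁻¹ ∈ cj y (cj x V) := by rw [← hyV]; exact conj_mem_cj hv
  rw [mem_cj] at h4
  refine ⟨_, h4, ?_⟩
  have h5 := conj_inv_mem_of_normalizer (b.cen_le_NU i (YY_le_cen hy)) h3
  have e4 : y⁻¹ * ((g * v * g⁻¹)⁻¹ * (y * m * y⁻¹)) * y = (y⁻¹ * (g * v * g⁻¹) * y)⁻¹ * m := by group
  rwa [e4] at h5

/-- `|D : V| = |k|` from `U = (D^w ∩ U) D` -/
theorem relIndex_V [Finite G] [Finite k] [CharP k 2] {w : G} (hw : w ∈ K) (hwV : w ∉ normalizer (V : Set G))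
    (hD : DD V R ⊓ cj w (DD V R) ≤ R i)
    (hU : ∀ u ∈ UU V R i, ∃ x ∈ cj w (DD V R), x ∈ UU V R i ∧ x⁻¹ * u ∈ DD V R) :
    V.relIndex (DD V R) = Nat.card k := by
  set D := DD V R with hDdef
  set U := UU V R i with hUdef
  set W := WW V (R i) with hWdef
  set E := cj w D ⊓ U with hE
  have hwR : w ∈ normalizer (R i : Set G) := n.K_le_NR b hw
  have hwW : w ∈ normalizer (W : Set G) := normalizer_le_WW V (R i) hwR
  have hRD : R i ≤ D := (b.R_le i).trans (V_le_D V R)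
  have hDU : D ≤ U := b.D_le_U i
  have hUN : U ≤ normalizer (D : Set G) := (UU_le_YY i).trans b.Y_le_ND
  -- `|U : D| = |E : R|`
  have h1 : D.relIndex U = Nat.card k := n.relIndex_D b
  have h2 : U = D ⊔ E := by
    apply le_antisymm
    · intro u hu
      obtain ⟨x, hx, hxU, e⟩ := hU u hu
      have e1 : u = (x * (x⁻¹ * u) * x⁻¹) * x := by group
      rw [e1]
      exact mul_mem ((le_sup_left : D ≤ _) (conj_mem_of_normalizer (hUN hxU) e))
        ((le_sup_right : E ≤ _) (mem_inf.2 ⟨hx, hxU⟩))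
    · exact sup_le hDU inf_le_right
  have hRE : R i ≤ E := by
    refine le_inf ?_ (hRD.trans hDU)
    have := cj_mono (g := w) hRD
    rwa [cj_eq_self_iff.2 hwR] at this
  have h3 : (R i).relIndex E = Nat.card k := by
    have h4 : D.relIndex E = Nat.card k := by
      rw [← h1]
      rw [h2]
      exact (relIndex_sup_of_le ((inf_le_right : E ≤ U).trans hUN)).symm
    have h5 : D ⊓ E = R i := le_antisymm ((inf_le_inf_left D inf_le_left).trans hD) (le_inf hRD hRE)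
    rw [← h4, ← inf_relIndex_right D E, h5]
  -- `|D^w : E| = q`
  have h6 : E.relIndex (cj w D) = Nat.card (R i) := by
    have h7 : U.relIndex W = Nat.card (R i) := b.relIndex_U i
    have h8 : W = U ⊔ cj w D := by
      apply le_antisymm
      · intro m hm
        obtain ⟨v, hv, e⟩ := n.cov b hw hwV hm
        have hvD : v ∈ cj w D := cj_mono (V_le_D V R) hv
        have hvW : v ∈ W := by
          have := cj_mono (g := w) (D_le_W V R i) hvD
          rwa [cj_eq_self_iff.2 hwW] at this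
        have hWU : W ≤ normalizer (U : Set G) := by
          intro g hg
          rw [← cj_eq_self_iff, hUdef, b.cj_UU (b.W_le_NV i hg) (cj_eq_self_iff.2 (b.W_le_N i hg))]
        have e1 : m = (v * (v⁻¹ * m) * v⁻¹) * v := by group
        rw [e1]
        exact mul_mem ((le_sup_left : U ≤ _) (conj_mem_of_normalizer (hWU hvW) e))
          ((le_sup_right : cj w D ≤ _) hvD)
      · refine sup_le (UU_le_WW i) ?_
        have := cj_mono (g := w) (D_le_W V R i)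
        rwa [cj_eq_self_iff.2 hwW] at this
    have hWU : W ≤ normalizer (U : Set G) := by
      intro g hg
      rw [← cj_eq_self_iff, hUdef, b.cj_UU (b.W_le_NV i hg) (cj_eq_self_iff.2 (b.W_le_N i hg))]
    rw [hE, inf_comm, inf_relIndex_right, ← h7]
    rw [h8]
    exact (relIndex_sup_of_le (((le_sup_right : cj w D ≤ U ⊔ cj w D).trans_eq h8.symm).trans hWU)).symm
  -- counting
  have h9 := card_mul_relIndex hRE
  have h10 := card_mul_relIndex (inf_le_left : E ≤ cj w D)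
  rw [h3] at h9
  rw [h6, card_cj, ← h9] at h10
  have h11 := card_mul_relIndex (V_le_D V R)
  rw [b.card_V i, ← hDdef, ← h10] at h11
  have hq : 0 < Nat.card (R i) := Nat.card_pos
  have h12 : Nat.card (R i) ^ 2 * V.relIndex D = Nat.card (R i) ^ 2 * Nat.card k := by
    rw [h11]; ring
  exact Nat.eq_of_mul_eq_mul_left (by positivity) h12

/-- **`PLoc` from `K / W = SL₂(k)`** -/
theorem ploc [Finite G] [Finite k] [CharP k 2] {F : Type*} [Field F] [Finite F] [CharP F 2] {v : F → F → G}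
    {w1 w2 : F → G} (c : Coord V R i j v w1 w2) (hF : 4 ≤ Nat.card F) (hk : 4 ≤ Nat.card k)
    {w : G} (hw : w ∈ K) (hwV : w ∉ normalizer (V : Set G)) (hD : DD V R ⊓ cj w (DD V R) ≤ R i)
    (hU : ∀ u ∈ UU V R i, ∃ x ∈ cj w (DD V R), x ∈ UU V R i ∧ x⁻¹ * u ∈ DD V R) :
    PLoc V R i K (Nat.card k) := by
  have hcF : Nat.card (R i) = Nat.card F := by
    refine (Nat.card_eq_of_bijective (fun x : F => (⟨v x 0, (c.mem_R1 _).2 ⟨x, rfl⟩⟩ : R i)) ⟨?_, ?_⟩).symm
    · intro x y h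
      exact (c.v_inj (congrArg Subtype.val h)).1
    · rintro ⟨y, hy⟩
      obtain ⟨x, hx⟩ := (c.mem_R1 y).1 hy
      exact ⟨x, Subtype.ext hx⟩
  obtain ⟨a, ha, ha1⟩ := exists_ne_one hF
  obtain ⟨a', ha', ha1'⟩ := exists_ne_one hk
  exact
    { bt := b
      q4 := by rw [hcF]; exact hF
      r4 := hk
      cU := n.relIndex_D b
      cD := n.relIndex_V b hw hwV hD hU
      odd₁ := odd_stab c b ha ha1
      t₁ := exists_torus c b ha ha1
      X₂N := n.K_le_NR b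
      NX₂ := n.kd.NK
      W₂ := n.kd.WK
      Y₂ := n.Y_le b
      frat₂ := fun g hg => n.frat b hg
      odd₂ := by
        have h1 : WW V (R i) ⊔ YY V R ≤ K ⊓ normalizer (V : Set G) :=
          le_inf (n.UZ_le b) (sup_le (b.W_le_NV i) PLoc.Y_NV)
        have h2 := relIndex_mul_relIndex _ _ K h1 inf_le_left
        have h3 : (WW V (R i) ⊔ YY V R).relIndex K = (upG k).index := by
          have h4 : (WW V (R i) ⊔ YY V R).subgroupOf K = (upG k).comap φ := by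
            ext x
            rw [mem_subgroupOf, mem_comap]
            exact n.mem_UZ b x
          have h5 := index_comap_of_surjective (upG k) n.kd.surj
          rw [← h4] at h5
          exact h5
        have h4 : Odd ((WW V (R i) ⊔ YY V R).relIndex K) := by rw [h3]; exact odd_index_upG
        rw [← h2] at h4
        exact Nat.Odd.of_mul_left h4
      t₂ := n.torus b ha' ha1'
      trans₂ := fun x hx x' hx' h h' => n.exists_trans b (x := ⟨x, hx⟩) (x' := ⟨x', hx'⟩)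
        (fun h0 => h (n.mem_NV_of b (g := ⟨x, hx⟩) h0)) (fun h0 => h' (n.mem_NV_of b (g := ⟨x', hx'⟩) h0))
      ker₂ := fun x hx h y hy hyx => n.ker b hx h hy hyx
      DD := by
        intro x hx h
        obtain ⟨y, hy, e⟩ := n.exists_trans b (x := ⟨w, hw⟩) (x' := ⟨x, hx⟩)
          (fun h0 => hwV (n.mem_NV_of b (g := ⟨w, hw⟩) h0)) (fun h0 => h (n.mem_NV_of b (g := ⟨x, hx⟩) h0))
        have hyD : cj y (BTwo.DD V R) = BTwo.DD V R := cj_eq_self_iff.2 (b.Y_le_ND hy)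
        have e1 : x = y * (w * ((y * w)⁻¹ * x)) := by group
        have h1 : cj x (BTwo.DD V R) = cj y (cj w (BTwo.DD V R)) := by
          nth_rewrite 1 [e1]
          rw [cj_mul, cj_mul, cj_eq_self_iff.2 (b.NV_le_ND e)]
        have h2 : BTwo.DD V R ⊓ cj x (BTwo.DD V R) = cj y (BTwo.DD V R ⊓ cj w (BTwo.DD V R)) := by
          rw [cj_inf, hyD, h1]
        rw [h2]
        have h3 := cj_mono (g := y) hD
        rwa [cj_eq_self_iff.2 (b.cen_le_N i (YY_le_cen hy))] at h3 }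

end KIn

end Cfsg.Agent.Omega.Hex

end

section


/-!
# `C_G(v) ≤ N_G(R)` for `v ∈ R#`, from characteristic 2 type

`PLoc.mem_V` : `C_W(Y mod R) = V` (`C_M(A) = e`); `PLoc.cen` : `Z(O₂(C_G(v))) = R`.
-/

set_option autoImplicit false
set_option linter.dupNamespace false
set_option linter.unusedSectionVars false

universe u v w

namespace Cfsg.Agent.Omega.Hex

open Subgroup Cfsg.Agent.Omega.BTwo Cfsg.Agent.Omega.SQEnd Cfsg.Agent.Lib.SL2Mat
open scoped Pointwise commutatorElement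

variable {G : Type u} [Group G]

/-- a 2-group `Y` acting on `N / M` (`N ≤ Y`) has a fixed point `≠ 1` -/
theorem exists_fixed_mod [Finite G] {Y N M : Subgroup G} (hY : IsPGroup 2 Y) (hNY : N ≤ Y)
    (hN : Y ≤ normalizer (N : Set G)) (hM : Y ≤ normalizer (M : Set G)) (hne : ∃ n ∈ N, n ∉ M) :
    ∃ n ∈ N, n ∉ M ∧ ∀ y ∈ Y, n * y * n⁻¹ * y⁻¹ ∈ M := by
  have : Fact (Nat.Prime 2) := ⟨Nat.prime_two⟩
  have hMn : (M.subgroupOf Y).Normal :=
    ⟨fun n hn g => conj_mem_of_normalizer (g := (g : G)) (x := (n : G)) (hM g.2) hn⟩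
  have hNn : (N.subgroupOf Y).Normal :=
    ⟨fun n hn g => conj_mem_of_normalizer (g := (g : G)) (x := (n : G)) (hN g.2) hn⟩
  set π := QuotientGroup.mk' (M.subgroupOf Y) with hπ
  have hN2 : ((N.subgroupOf Y).map π).Normal := Subgroup.Normal.map hNn _ (QuotientGroup.mk'_surjective _)
  have hne2 : (N.subgroupOf Y).map π ≠ ⊥ := by
    obtain ⟨n, hn, hnM⟩ := hne
    intro hbot
    apply hnM
    have h1 : π ⟨n, hNY hn⟩ ∈ (N.subgroupOf Y).map π := mem_map_of_mem _ (by rw [mem_subgroupOf]; exact hn)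
    rw [hbot, mem_bot] at h1
    rw [hπ, QuotientGroup.mk'_apply, QuotientGroup.eq_one_iff, mem_subgroupOf] at h1
    exact h1
  have hYM : IsPGroup 2 (Y ⧸ M.subgroupOf Y) := hY.to_quotient _
  obtain ⟨z, hz, hz1, hzf⟩ := exists_fixed (V := (N.subgroupOf Y).map π) (T := ⊤)
    (hYM.to_subgroup _) hne2 (hYM.to_subgroup _) (by rw [normalizer_eq_top])
  obtain ⟨n, hn, rfl⟩ := hz
  refine ⟨n, hn, fun h => hz1 ((QuotientGroup.eq_one_iff n).2 h), fun y hy => ?_⟩
  have h1 := hzf (π ⟨y, hy⟩) (mem_top _)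
  rw [← map_inv, ← map_mul, ← map_mul] at h1
  have h2 := QuotientGroup.eq.1 h1
  rw [mem_subgroupOf] at h2
  have e : ((⟨y, hy⟩ * n * (⟨y, hy⟩ : Y)⁻¹ : Y)⁻¹ * n : Y) = ⟨y, hy⟩ * (n⁻¹ * (⟨y, hy⟩ : Y)⁻¹ * n⁻¹⁻¹ * ⟨y, hy⟩) * (⟨y, hy⟩ : Y)⁻¹ := by
    group
  rw [e] at h2
  have h3 := conj_inv_mem_of_normalizer (hM hy) h2
  have e2 : y⁻¹ * ((⟨y, hy⟩ * (n⁻¹ * (⟨y, hy⟩ : Y)⁻¹ * n⁻¹⁻¹ * ⟨y, hy⟩) * (⟨y, hy⟩ : Y)⁻¹ : Y) : G) * y =
      (n : G)⁻¹ * y⁻¹ * n * y := by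
    push_cast
    group
  rw [e2] at h3
  -- `n⁻¹ y⁻¹ n y ∈ M`
  have h4 : y * (n : G) * ((n : G)⁻¹ * y⁻¹ * n * y) * (y * (n : G))⁻¹ ∈ M :=
    conj_mem_of_normalizer (hM (mul_mem hy (hNY hn))) h3
  have e3 : y * (n : G) * ((n : G)⁻¹ * y⁻¹ * n * y) * (y * (n : G))⁻¹ = n * y * (n : G)⁻¹ * y⁻¹ := by group
  rwa [e3] at h4

variable {ι : Type v} {V : Subgroup G} {R : ι → Subgroup G} {i : ι} {X₂ : Subgroup G} {r : ℕ}

namespace PLoc

variable (l : PLoc V R i X₂ r)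
include l

theorem exists_cj {g : G} (hg : g ∈ normalizer (R i : Set G)) : ∃ x ∈ X₂, cj g V = cj x V := by
  obtain ⟨x, hx, h⟩ := l.frat₂ g hg
  refine ⟨x, hx, ?_⟩
  have e1 : g = x * (x⁻¹ * g) := by group
  rw [e1, cj_mul, cj_eq_self_iff.2 h]

/-- `W` is generated by the `V^x`, `x ∈ X₂` -/
theorem W_cen {n : G} (h : ∀ x ∈ X₂, n ∈ centralizer (cj x V : Set G)) :
    n ∈ centralizer (WW V (R i) : Set G) := by
  have h1 : WW V (R i) ≤ centralizer {n} := by
    refine iSup_le fun g => ?_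
    obtain ⟨x, hx, e⟩ := l.exists_cj g.2
    rw [e]
    intro y hy
    rw [mem_centralizer_iff]
    rintro _ rfl
    exact (mem_centralizer_iff.1 (h x hx) y hy).symm
  rw [mem_centralizer_iff]
  intro w hw
  exact (mem_centralizer_iff.1 (h1 hw) n rfl).symm

/-- `V^x` covers `W / U i` -/
theorem cov {x : G} (hx : x ∈ X₂) (h : x ∉ normalizer (V : Set G)) {m : G}
    (hm : m ∈ WW V (R i)) : ∃ v ∈ cj x V, v⁻¹ * m ∈ UU V R i := by
  obtain ⟨g, hg, H⟩ := l.bt.mt i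
  obtain ⟨a, ha, hag⟩ := l.frat₂ g hg
  have hga : cj g V = cj a V := by
    have e1 : g = a * (a⁻¹ * g) := by group
    rw [e1, cj_mul, cj_eq_self_iff.2 hag]
  have haV : a ∉ normalizer (V : Set G) := by
    intro h1
    obtain ⟨j', hj, -⟩ := l.bt.third i i
    obtain ⟨k', hki, hkj⟩ := l.bt.third i j'
    obtain ⟨⟨v, hv, e⟩, -⟩ := H j' k' hj hki
    have h2 : g * v * g⁻¹ ∈ V := by
      have := conj_mem_cj (g := g) hv
      rwa [hga, cj_eq_self_iff.2 h1] at this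
    have h3 : cj (g * v * g⁻¹) (R j') = R j' := by
      apply cj_eq_self_iff.2
      refine l.bt.cen_le_N j' ?_
      rw [mem_centralizer_iff]
      exact fun a ha => l.bt.V_comm a ha _ h2
    exact hkj (l.bt.R_index (e.symm.trans h3))
  obtain ⟨y, hy, e2⟩ := l.trans₂ x hx a ha h haV
  have e3 : a = y * (x * ((y * x)⁻¹ * a)) := by group
  have hyV : cj g V = cj y (cj x V) := by
    rw [hga]
    nth_rewrite 1 [e3]
    rw [cj_mul, cj_mul, cj_eq_self_iff.2 e2]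
  have hyW : y ∈ normalizer (WW V (R i) : Set G) := l.bt.cen_le_NW i (YY_le_cen hy)
  obtain ⟨v, hv, h3⟩ := l.bt.W_fact (fun j k hj hk => (H j k hj hk).1) hg (conj_mem_of_normalizer hyW hm)
  have h4 : g * v * g⁻¹ ∈ cj y (cj x V) := by rw [← hyV]; exact conj_mem_cj hv
  rw [mem_cj] at h4
  refine ⟨_, h4, ?_⟩
  have h5 := conj_inv_mem_of_normalizer (l.bt.cen_le_NU i (YY_le_cen hy)) h3
  have e4 : y⁻¹ * ((g * v * g⁻¹)⁻¹ * (y * m * y⁻¹)) * y = (y⁻¹ * (g * v * g⁻¹) * y)⁻¹ * m := by group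
  rwa [e4] at h5

/-- `W = V C_W(V^x)` -/
theorem cov' {x : G} (hx : x ∈ X₂) (h : x ∉ normalizer (V : Set G)) {m : G}
    (hm : m ∈ WW V (R i)) : ∃ v ∈ V, v⁻¹ * m ∈ cj x (UU V R i) := by
  have hxN := normalizer_le_WW V (R i) (l.X₂N hx)
  obtain ⟨v, hv, h1⟩ := l.cov (inv_mem hx) (fun h2 => h (inv_mem_iff.1 h2)) (conj_inv_mem_of_normalizer hxN hm)
  rw [mem_cj, inv_inv] at hv
  refine ⟨x * v * x⁻¹, hv, ?_⟩
  rw [mem_cj]
  have e : x⁻¹ * ((x * v * x⁻¹)⁻¹ * m) * x = v⁻¹ * (x⁻¹ * m * x) := by group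
  rw [e]
  exact h1

variable (cW : centralizer (WW V (R i) : Set G) ≤ R i)
include cW

/-- **`C_M(A) = e`** : an element of `W` centralising `Y` modulo `R` is in `V` -/
theorem mem_V {x : G} (hx : x ∈ WW V (R i)) (h : ∀ y ∈ YY V R, x * y * x⁻¹ * y⁻¹ ∈ R i) : x ∈ V := by
  have hRV := l.bt.R_le i
  -- `x ∈ U i`
  have hxU : x ∈ UU V R i := by
    by_contra hxU
    obtain ⟨j, hj, -⟩ := l.bt.third i i
    have h1 : UU V R j ≤ BTwo.DD V R := fun u hu =>
      l.bt.inj hj hx hxU hu (V_le_D V R (hRV (h u (UU_le_YY j hu))))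
    have h2 := l.cU
    rw [l.bt.card_U i j, relIndex_eq_one.2 h1] at h2
    have h3 := l.r4
    omega
  obtain ⟨x₂, hx₂, hx₂V⟩ := l.exists_x₂
  obtain ⟨e, he, hn⟩ := l.cov' hx₂ hx₂V hx
  set n := e⁻¹ * x with hndef
  have hxe : x = e * n := by rw [hndef]; group
  have hnV : n ∈ centralizer (V : Set G) := mul_mem (inv_mem (l.bt.V_le_cen he)) (UU_le_cen i hxU)
  -- `[n, y] ∈ R`
  have hny : ∀ y ∈ YY V R, n * y * n⁻¹ * y⁻¹ ∈ R i := by
    intro y hy
    have h1 := mem_centralizer_iff.1 (YY_le_cen hy) e he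
    have h2 : n * y * n⁻¹ * y⁻¹ = e⁻¹ * (x * y * x⁻¹ * y⁻¹) * e := by
      have e1 : n * y * n⁻¹ * y⁻¹ = e⁻¹ * (x * y * x⁻¹) * (e * y⁻¹) := by rw [hndef]; group
      have h3 : e * y⁻¹ = y⁻¹ * e := ((show Commute e y from h1).inv_right)
      rw [e1, h3]; group
    rw [h2, l.bt.V_comm _ (inv_mem he) _ (hRV (h y hy)), inv_mul_cancel_right]
    exact h y hy
  -- `n` centralises all `V^g`
  have hnc : n ∈ centralizer (WW V (R i) : Set G) := by
    refine l.W_cen fun g hg => ?_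
    by_cases hgV : g ∈ normalizer (V : Set G)
    · rw [cj_eq_self_iff.2 hgV]; exact hnV
    obtain ⟨y, hy, e2⟩ := l.trans₂ x₂ hx₂ g hg hx₂V hgV
    have e3 : g = y * (x₂ * ((y * x₂)⁻¹ * g)) := by group
    have hgc : cj g V = cj y (cj x₂ V) := by
      nth_rewrite 1 [e3]
      rw [cj_mul, cj_mul, cj_eq_self_iff.2 e2]
    rw [hgc, mem_centralizer_iff]
    intro v hv
    rw [SetLike.mem_coe, mem_cj] at hv
    set v' := y⁻¹ * v * y with hv'
    -- `n` commutes with `v'`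
    have h1 : v' * n = n * v' := by
      rw [mem_cj] at hn hv
      have h2 := mem_centralizer_iff.1 (UU_le_cen i hn) _ hv
      calc v' * n = x₂ * ((x₂⁻¹ * v' * x₂) * (x₂⁻¹ * n * x₂)) * x₂⁻¹ := by group
        _ = x₂ * ((x₂⁻¹ * n * x₂) * (x₂⁻¹ * v' * x₂)) * x₂⁻¹ := by rw [h2]
        _ = n * v' := by group
    -- `R` commutes with `v'`
    have h2 : ∀ a ∈ R i, v' * a = a * v' := by
      intro a ha
      rw [mem_cj] at hv
      have h3 := conj_inv_mem_of_normalizer (l.X₂N hx₂) ha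
      have h4 := l.bt.V_comm _ hv _ (hRV h3)
      calc v' * a = x₂ * ((x₂⁻¹ * v' * x₂) * (x₂⁻¹ * a * x₂)) * x₂⁻¹ := by group
        _ = x₂ * ((x₂⁻¹ * a * x₂) * (x₂⁻¹ * v' * x₂)) * x₂⁻¹ := by rw [h4]
        _ = a * v' := by group
    -- `y⁻¹ n y = n c`
    have h3 := hny y⁻¹ (inv_mem hy)
    rw [inv_inv] at h3
    have h4 : y⁻¹ * n * y = (n * y⁻¹ * n⁻¹ * y)⁻¹ * n := by group
    have h5 : v' * (y⁻¹ * n * y) = y⁻¹ * n * y * v' := by
      have h6 := h2 _ (inv_mem h3)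
      rw [h4]
      calc v' * ((n * y⁻¹ * n⁻¹ * y)⁻¹ * n) = (v' * (n * y⁻¹ * n⁻¹ * y)⁻¹) * n := by group
        _ = (n * y⁻¹ * n⁻¹ * y)⁻¹ * (v' * n) := by rw [h6]; group
        _ = (n * y⁻¹ * n⁻¹ * y)⁻¹ * n * v' := by rw [h1]; group
    calc v * n = y * (v' * (y⁻¹ * n * y)) * y⁻¹ := by rw [hv']; group
      _ = y * (y⁻¹ * n * y * v') * y⁻¹ := by rw [h5]
      _ = n * v := by rw [hv']; group
  rw [hxe]
  exact mul_mem he (hRV (cW hnc))

/-- an `X₂`-invariant subgroup of `W` commuting with some `z ∈ V - R` is in `R` -/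
theorem le_R_of_comm {N : Subgroup G} (hN : N ≤ WW V (R i)) (hX : X₂ ≤ normalizer (N : Set G)) {z : G}
    (hz : z ∈ V) (hzR : z ∉ R i) (h : ∀ m ∈ N, m * z = z * m) : N ≤ R i := by
  intro m hm
  apply cW
  refine l.W_cen fun x hx => ?_
  rw [mem_centralizer_iff]
  intro v hv
  rw [SetLike.mem_coe, mem_cj] at hv
  have hm' : x⁻¹ * m * x ∈ N := conj_inv_mem_of_normalizer (hX hx) hm
  have h1 := l.bt.reg (l.bt.W_le_Q i (hN hm')) hz hzR (h _ hm') _ hv
  calc v * m = x * ((x⁻¹ * v * x) * (x⁻¹ * m * x)) * x⁻¹ := by group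
    _ = x * ((x⁻¹ * m * x) * (x⁻¹ * v * x)) * x⁻¹ := by rw [h1]
    _ = m * v := by group

variable [Finite G]

/-- an `X₂`-invariant subgroup of `W` not in `R` meets `V` outside `R` -/
theorem exists_mem_V {N : Subgroup G} (hN : N ≤ WW V (R i)) (hX : X₂ ≤ normalizer (N : Set G))
    (h : ¬ N ≤ R i) : ∃ n ∈ N, n ∈ V ∧ n ∉ R i := by
  have hUX : UZ V R i ≤ X₂ := sup_le l.W₂ l.Y₂
  obtain ⟨n, hn, hnR, hf⟩ := exists_fixed_mod (M := R i) l.U_two (hN.trans le_sup_left)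
    (hUX.trans hX) (hUX.trans l.X₂N) (Set.not_subset.1 h)
  exact ⟨n, hn, l.mem_V cW (hN hn) fun y hy => hf y ((le_sup_right : YY V R ≤ _) hy), hnR⟩

theorem R_le_of_not {N : Subgroup G} (hN : N ≤ WW V (R i)) (hX : X₂ ≤ normalizer (N : Set G))
    (h : ¬ N ≤ R i) : R i ≤ N := by
  obtain ⟨n, hn, hnV, hnR⟩ := l.exists_mem_V cW hN hX h
  obtain ⟨j, hj⟩ := l.bt.R_cov n hnV
  have hij : i ≠ j := by rintro rfl; exact hnR hj
  have hn1 : n ≠ 1 := by rintro rfl; exact hnR (one_mem _)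
  intro a ha
  obtain ⟨w, hw, e⟩ := l.bt.onto hij hj hn1 ha
  rw [← e]
  exact mul_mem (conj_mem_of_normalizer (hX (l.W₂ hw)) hn) (inv_mem hn)

/-- **`C_G(v) ≤ N_G(R)`** for `v ∈ R#` -/
theorem cen (cR : ∀ g ∈ X₂, ∀ a ∈ R i, g * a = a * g)
    (oK : ∀ T : Subgroup G, T ≤ X₂ → IsPGroup 2 T → X₂ ≤ normalizer (T : Set G) → T ≤ WW V (R i))
    (eK : ∀ t ∈ normalizer (R i : Set G), (∃ n : ℕ, t ^ 2 ^ n = 1) →
      (∀ g ∈ X₂, t * g * t⁻¹ * g⁻¹ ∈ WW V (R i)) → t ∈ WW V (R i))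
    (S : Sylow 2 G) (hS : (S : Subgroup G) ≤ normalizer (R i : Set G))
    (trR : ∀ a ∈ R i, a ≠ 1 → ∀ a' ∈ R i, a' ≠ 1 → ∃ g ∈ normalizer (R i : Set G), g * a * g⁻¹ = a')
    {v : G} (hv : v ∈ R i) (hv1 : v ≠ 1)
    (ch : centralizer ({v} : Set G) ⊓ centralizer (O2 (centralizer ({v} : Set G)) : Set G) ≤
      O2 (centralizer ({v} : Set G))) {c : G} (hc : c * v = v * c) : c ∈ normalizer (R i : Set G) := by
  set C := centralizer ({v} : Set G) with hC
  set N := O2 C with hN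
  have hmemC : ∀ g : G, g * v = v * g → g ∈ C := fun g hg => mem_centralizer_singleton_iff.2 hg
  have hXC : X₂ ≤ C := fun g hg => hmemC g (cR g hg v hv)
  have hWC : WW V (R i) ≤ C := l.W₂.trans hXC
  have hCN : C ≤ normalizer (N : Set G) := le_normalizer_O2 C
  have hN2 : IsPGroup 2 N := O2_isPGroup C
  -- `N ≤ N(R)`
  have hNR : N ≤ normalizer (R i : Set G) := by
    have hR2 : IsPGroup 2 (R i) := (l.bt.W_isPGroup i).to_le ((l.bt.R_le i).trans (V_le_WW V (R i)))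
    have hR1 : R i ≠ ⊥ := l.bt.R_ne i
    obtain ⟨v₀, hv₀, hv₀1, hf⟩ := exists_fixed hR2 hR1 S.isPGroup' hS
    obtain ⟨g, hg, e⟩ := trR v₀ hv₀ hv₀1 v hv hv1
    -- `S ≤ C(v₀) = C^{g⁻¹}`
    have h1 : (S : Subgroup G) ≤ normalizer (cj g⁻¹ N : Set G) := by
      rw [normalizer_cj]
      intro s hs
      rw [mem_cj, inv_inv]
      apply hCN
      apply hmemC
      have h2 := hf s hs
      calc g * s * g⁻¹ * v = g * s * (g⁻¹ * v * g) * g⁻¹ := by group
        _ = g * (s * v₀ * s⁻¹) * s * g⁻¹ := by rw [← e]; group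
        _ = g * v₀ * s * g⁻¹ := by rw [h2]
        _ = (g * v₀ * g⁻¹) * (g * s * g⁻¹) := by group
        _ = v * (g * s * g⁻¹) := by rw [e]
    have h2 : IsPGroup 2 ((S : Subgroup G) ⊔ cj g⁻¹ N : Subgroup G) :=
      S.isPGroup'.to_sup_of_normal_right' (isPGroup_cj hN2) h1
    have h3 := S.is_maximal' h2 le_sup_left
    have h4 : cj g⁻¹ N ≤ normalizer (R i : Set G) := ((le_sup_right : cj g⁻¹ N ≤ _).trans_eq h3).trans hS
    have h5 := cj_mono (g := g) h4
    rw [cj_cj_inv] at h5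
    rwa [cj_of_mem hg] at h5
  -- `N ≤ W`
  have hNW : N ≤ WW V (R i) := by
    intro t ht
    refine eK t (hNR ht) (by
      obtain ⟨n, hn⟩ := hN2 ⟨t, ht⟩
      exact ⟨n, congrArg Subtype.val hn⟩) fun g hg => ?_
    have h1 : N ⊓ X₂ ≤ WW V (R i) := by
      refine oK _ inf_le_right (hN2.to_le inf_le_left) ?_
      intro x hx
      rw [← cj_eq_self_iff, cj_inf, cj_eq_self_iff.2 (hCN (hXC hx)), cj_of_mem hx]
    refine h1 (mem_inf.2 ⟨?_, ?_⟩)
    · have e : t * g * t⁻¹ * g⁻¹ = t * (g * t⁻¹ * g⁻¹) := by group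
      rw [e]
      exact mul_mem ht (conj_mem_of_normalizer (hCN (hXC hg)) (inv_mem ht))
    · exact mul_mem (conj_mem_of_normalizer (l.NX₂ (hNR ht)) hg) (inv_mem hg)
  -- `N` is not in `R`
  have hNR' : ¬ N ≤ R i := by
    intro h
    have h1 : WW V (R i) ≤ N := by
      intro w hw
      refine ch (mem_inf.2 ⟨hWC hw, ?_⟩)
      rw [mem_centralizer_iff]
      exact fun a ha => (cR w (l.W₂ hw) a (h ha)).symm
    obtain ⟨j, hj, -⟩ := l.bt.third i i
    obtain ⟨y, hy, hy1⟩ := l.bt.exists_ne j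
    have h2 := (V_le_WW V (R i)).trans (h1.trans h) (l.bt.R_le j hy)
    exact hy1 (l.bt.eq_one hj hy h2)
  have hXN : X₂ ≤ normalizer (N : Set G) := hXC.trans hCN
  have hRN : R i ≤ N := l.R_le_of_not cW hNW hXN hNR'
  -- `Z(N) = R`
  have hZ : N ⊓ centralizer (N : Set G) = R i := by
    apply le_antisymm
    · by_contra h
      have hXZ : X₂ ≤ normalizer ((N ⊓ centralizer (N : Set G) : Subgroup G) : Set G) := by
        intro x hx
        rw [← cj_eq_self_iff, cj_inf, ← centralizer_cj, cj_eq_self_iff.2 (hXN hx)]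
      obtain ⟨z, hz, hzV, hzR⟩ := l.exists_mem_V cW (inf_le_left.trans hNW) hXZ h
      exact hNR' (l.le_R_of_comm cW hNW hXN hzV hzR fun m hm =>
        mem_centralizer_iff.1 (mem_inf.1 hz).2 m hm)
    · refine le_inf hRN ?_
      intro a ha
      rw [mem_centralizer_iff]
      exact fun m hm => cR m (l.W₂ (hNW hm)) a ha
  rw [← cj_eq_self_iff, ← hZ, cj_inf, ← centralizer_cj, cj_eq_self_iff.2 (hCN (hmemC c hc))]

end PLoc

end Cfsg.Agent.Omega.Hex

end

section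


/-!
# A 2-automorphism of `SL₂(k)` centralising a split torus is trivial (`4 < |k|`, `char k = 2`)
-/

set_option autoImplicit false
set_option linter.dupNamespace false
set_option linter.unusedSectionVars false

universe u v w

namespace Cfsg.Agent.Omega.Hex

open Cfsg.Agent.Lib.SL2Mat

variable {k : Type w} [Field k]

local notation "SLk" => Matrix.SpecialLinearGroup (Fin 2) k

theorem dg_lo (b c : k) (hb : b ≠ 0) : dg b hb * lo c = lo (b⁻¹ ^ 2 * c) * dg b hb := by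
  apply ext_ent <;> simp only [ent_mul, dg_00, dg_01, dg_10, dg_11, lo_00, lo_01, lo_10, lo_11] <;>
    field_simp <;> ring

section
variable [CharP k 2]

theorem eq_one_of_sq {a : k} (h : a * a = 1) : a = 1 := by
  have h2 : (2 : k) = 0 := CharP.cast_eq_zero k 2
  have h1 : (a - 1) ^ 2 = 0 := by linear_combination h - (a - 1) * h2
  exact sub_eq_zero.1 (pow_eq_zero_iff (by norm_num) |>.1 h1)

theorem inv_ne_self {a : k} (ha : a ≠ 0) (ha1 : a ≠ 1) : a - a⁻¹ ≠ 0 := by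
  intro h
  apply ha1
  apply eq_one_of_sq
  field_simp at h
  linear_combination h

/-- an involution commuting with its conjugate under a torus element is upper or lower triangular -/
theorem shape {M : SLk} (hM : M * M = 1) (hM1 : M ≠ 1) {a : k} (ha : a ≠ 0) (ha1 : a ≠ 1)
    (hc : M * (dg a ha * M * (dg a ha)⁻¹) = dg a ha * M * (dg a ha)⁻¹ * M) :
    (∃ c, c ≠ 0 ∧ M = up c) ∨ (∃ c, c ≠ 0 ∧ M = lo c) := by
  have h2 : (2 : k) = 0 := CharP.cast_eq_zero k 2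
  have hd := det_eq M
  have e00 := congrArg (fun A => ent A 0 0) hM
  have e01 := congrArg (fun A => ent A 0 1) hM
  have e10 := congrArg (fun A => ent A 1 0) hM
  have e11 := congrArg (fun A => ent A 1 1) hM
  have c00 := congrArg (fun A => ent A 0 0) hc
  simp only [ent_mul, ent_one_00, ent_one_01, ent_one_10, ent_one_11] at e00 e01 e10 e11
  simp only [ent_mul, ent_inv, mk_00, mk_01, mk_10, mk_11, dg_00, dg_01, dg_10, dg_11] at c00
  set p := ent M 0 0 with hp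
  set b := ent M 0 1 with hb
  set c := ent M 1 0 with hcc
  set d := ent M 1 1 with hdd
  -- trace zero
  have htr : p = d := by
    by_contra hpd
    have h3 : p + d ≠ 0 := by
      intro h4
      apply hpd
      linear_combination h4 - d * h2
    have hb0 : b = 0 := by
      have : b * (p + d) = 0 := by linear_combination e01
      exact (mul_eq_zero.1 this).resolve_right h3
    have hc0 : c = 0 := by
      have : c * (p + d) = 0 := by linear_combination e10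
      exact (mul_eq_zero.1 this).resolve_right h3
    rw [hb0, hc0] at e00 e11
    have h5 : p = 1 := eq_one_of_sq (by linear_combination e00)
    have h6 : d = 1 := eq_one_of_sq (by linear_combination e11)
    exact hpd (h5.trans h6.symm)
  -- `b c = 0`
  have hbc : b * c = 0 := by
    have h3 : b * c * (a⁻¹ ^ 2 - a ^ 2) = 0 := by linear_combination c00
    refine (mul_eq_zero.1 h3).resolve_right fun h4 => ?_
    refine pow_ne_zero 2 (inv_ne_self ha ha1) ?_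
    linear_combination h4 + (a ^ 2 - a * a⁻¹) * h2
  have hp1 : p = 1 := eq_one_of_sq (by linear_combination e00 - hbc)
  rcases mul_eq_zero.1 hbc with h0 | h0
  · right
    refine ⟨c, ?_, ?_⟩
    · rintro h3
      apply hM1
      apply ext_ent
      · rw [← hp, hp1]; rfl
      · rw [← hb, h0]; rfl
      · rw [← hcc, h3]; rfl
      · rw [← hdd, ← htr, hp1]; rfl
    · apply ext_ent
      · rw [← hp, hp1]; rfl
      · rw [← hb, h0]; rfl
      · rfl
      · rw [← hdd, ← htr, hp1]; rfl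
  · left
    refine ⟨b, ?_, ?_⟩
    · rintro h3
      apply hM1
      apply ext_ent
      · rw [← hp, hp1]; rfl
      · rw [← hb, h3]; rfl
      · rw [← hcc, h0]; rfl
      · rw [← hdd, ← htr, hp1]; rfl
    · apply ext_ent
      · rw [← hp, hp1]; rfl
      · rfl
      · rw [← hcc, h0]; rfl
      · rw [← hdd, ← htr, hp1]; rfl

theorem exists_sq [Finite k] (x : k) : ∃ y, x = y ^ 2 := by
  have := Fintype.ofFinite k
  obtain ⟨y, hy⟩ := FiniteField.isSquare_of_char_two (ringChar.eq k 2 ▸ rfl) x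
  exact ⟨y, by rw [hy, sq]⟩

/-- `k ⊆ {0, 1, x, x + 1}` -/
theorem card_le_four [Finite k] (h : ∀ x : k, x ≠ 0 → x ≠ 1 → x ^ 2 + x + 1 = 0) : Nat.card k ≤ 4 := by
  classical
  have _ := Fintype.ofFinite k
  have h2 : (2 : k) = 0 := CharP.cast_eq_zero k 2
  by_cases h0 : ∃ x : k, x ≠ 0 ∧ x ≠ 1
  · obtain ⟨x, hx0, hx1⟩ := h0
    have h1 : (Finset.univ : Finset k) ⊆ {0, 1, x, x + 1} := by
      intro y _
      by_cases hy0 : y = 0
      · simp [hy0]
      by_cases hy1 : y = 1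
      · simp [hy1]
      have h3 : (y - x) * (y - (x + 1)) = 0 := by
        linear_combination h y hy0 hy1 - h x hx0 hx1 + (x * (x + 1) - y - x * y) * h2
      rcases mul_eq_zero.1 h3 with h4 | h4
      · simp [sub_eq_zero.1 h4]
      · simp [sub_eq_zero.1 h4]
    have h4 := Finset.card_le_card h1
    rw [Finset.card_univ, ← Nat.card_eq_fintype_card] at h4
    exact h4.trans Finset.card_le_four
  · push Not at h0
    have h1 : (Finset.univ : Finset k) ⊆ {0, 1} := by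
      intro y _
      by_cases hy0 : y = 0
      · simp [hy0]
      · simp [h0 y hy0]
    have h4 := Finset.card_le_card h1
    rw [Finset.card_univ, ← Nat.card_eq_fintype_card] at h4
    exact (h4.trans Finset.card_le_two).trans (by norm_num)

variable {α : Matrix.SpecialLinearGroup (Fin 2) k →* Matrix.SpecialLinearGroup (Fin 2) k}

theorem map_up {c : k} (hα : α (up 1) = up c) (hdg : ∀ (a : k) (ha : a ≠ 0), α (dg a ha) = dg a ha) [Finite k]
    (x : k) : α (up x) = up (c * x) := by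
  obtain ⟨a, rfl⟩ := exists_sq x
  by_cases ha : a = 0
  · rw [ha]
    simp [up_zero]
  have h1 := congrArg α (dg_up a 1 ha)
  rw [map_mul, map_mul, hdg, hα, dg_up] at h1
  have h2 := mul_right_cancel h1
  rw [mul_one] at h2
  rw [← h2, mul_comm]

theorem map_lo {c : k} (hα : α (lo 1) = lo c) (hdg : ∀ (a : k) (ha : a ≠ 0), α (dg a ha) = dg a ha) [Finite k]
    (x : k) : α (lo x) = lo (c * x) := by
  obtain ⟨a, rfl⟩ := exists_sq x
  by_cases ha : a = 0
  · rw [ha]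
    simp [lo_zero]
  have h1 := congrArg α (dg_lo a⁻¹ 1 (inv_ne_zero ha))
  rw [map_mul, map_mul, hdg, hα, dg_lo] at h1
  have h2 := mul_right_cancel h1
  rw [mul_one, inv_inv] at h2
  rw [← h2, mul_comm]

theorem up_sq (x : k) : up x * up x = 1 := by
  have h2 : (2 : k) = 0 := CharP.cast_eq_zero k 2
  rw [up_mul, ← two_mul, h2, zero_mul, up_zero]

theorem lo_sq (x : k) : lo x * lo x = 1 := by
  have h2 : (2 : k) = 0 := CharP.cast_eq_zero k 2
  rw [lo_mul, ← two_mul, h2, zero_mul, lo_zero]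

theorem map_up_comm (hdg : ∀ (a : k) (ha : a ≠ 0), α (dg a ha) = dg a ha) {a : k} (ha : a ≠ 0) :
    α (up 1) * (dg a ha * α (up 1) * (dg a ha)⁻¹) = dg a ha * α (up 1) * (dg a ha)⁻¹ * α (up 1) := by
  have h1 : dg a ha * α (up 1) * (dg a ha)⁻¹ = α (up (a ^ 2)) := by
    have h2 := dg_up a 1 ha
    rw [mul_one] at h2
    rw [mul_inv_eq_iff_eq_mul, ← hdg a ha, ← map_mul, ← map_mul, h2]
  rw [h1, ← map_mul, ← map_mul, up_mul, up_mul, add_comm]

theorem map_lo_comm (hdg : ∀ (a : k) (ha : a ≠ 0), α (dg a ha) = dg a ha) {a : k} (ha : a ≠ 0) :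
    α (lo 1) * (dg a ha * α (lo 1) * (dg a ha)⁻¹) = dg a ha * α (lo 1) * (dg a ha)⁻¹ * α (lo 1) := by
  have h1 : dg a ha * α (lo 1) * (dg a ha)⁻¹ = α (lo (a⁻¹ ^ 2)) := by
    have h2 := dg_lo a 1 ha
    rw [mul_one] at h2
    rw [mul_inv_eq_iff_eq_mul, ← hdg a ha, ← map_mul, ← map_mul, h2]
  rw [h1, ← map_mul, ← map_mul, lo_mul, lo_mul, add_comm]

theorem up_ne_lo {b c : k} (hb : b ≠ 0) : up b ≠ lo c := by
  intro h
  have := congrArg (fun A => ent A 0 1) h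
  exact hb this

/-- `α = 1` -/
theorem aut_eq_one [Finite k] (h4 : 4 < Nat.card k) (hα : Function.Injective α)
    (hdg : ∀ (a : k) (ha : a ≠ 0), α (dg a ha) = dg a ha) {n : ℕ} (hn : ∀ x, α^[2 ^ n] x = x) (x : SLk) : α x = x := by
  have h2 : (2 : k) = 0 := CharP.cast_eq_zero k 2
  obtain ⟨a, ha, ha1⟩ : ∃ a : k, a ≠ 0 ∧ a ≠ 1 := by
    by_contra h
    push Not at h
    have := card_le_four (k := k) fun x hx hx1 => absurd (h x hx) hx1
    omega
  have hu1 : (up 1 : SLk) ≠ 1 := fun h => one_ne_zero (up_inj (h.trans up_zero.symm))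
  have hl1 : (lo 1 : SLk) ≠ 1 := fun h => one_ne_zero (lo_inj (h.trans lo_zero.symm))
  -- `α (up 1) = up c`
  obtain ⟨c, hc, hαc⟩ : ∃ c, c ≠ 0 ∧ α (up 1) = up c := by
    rcases shape (by rw [← map_mul, up_sq, map_one]) (fun h => hu1 (hα (h.trans (map_one α).symm))) ha ha1
      (map_up_comm hdg ha) with h | ⟨c, hc, h⟩
    · exact h
    · exfalso
      have h3 : ∀ x : k, x ≠ 0 → α (up x) = lo (c * x⁻¹) := by
        intro x hx
        obtain ⟨b, rfl⟩ := exists_sq x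
        have hb : b ≠ 0 := fun h => hx (by rw [h]; ring)
        have h1 := congrArg α (dg_up b 1 hb)
        rw [map_mul, map_mul, hdg, h, dg_lo] at h1
        have h2 := mul_right_cancel h1
        rw [mul_one] at h2
        rw [← h2, inv_pow, mul_comm]
      have h5 := card_le_four (k := k) fun x hx hx1 => by
        have hx2 : x + 1 ≠ 0 := fun h => hx1 (by linear_combination h - h2)
        have h6 := congrArg α (up_mul x 1)
        rw [map_mul, h3 x hx, h3 _ hx2, h, lo_mul] at h6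
        have h7 := lo_inj h6
        field_simp at h7
        linear_combination h7
      omega
  obtain ⟨d, hd, hαd⟩ : ∃ d, d ≠ 0 ∧ α (lo 1) = lo d := by
    rcases shape (by rw [← map_mul, lo_sq, map_one]) (fun h => hl1 (hα (h.trans (map_one α).symm))) ha ha1
      (map_lo_comm hdg ha) with ⟨d, hd, h⟩ | h
    · exfalso
      have h3 := map_up hαc hdg (c⁻¹ * d)
      rw [mul_inv_cancel_left₀ hc] at h3
      have h4 := hα (h3.trans h.symm)
      exact up_ne_lo (mul_ne_zero (inv_ne_zero hc) hd) h4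
    · exact h
  have hup := map_up hαc hdg
  have hlo := map_lo hαd hdg
  have hiu : ∀ m x, α^[m] (up x) = up (c ^ m * x) := by
    intro m
    induction m with
    | zero => intro x; simp
    | succ m ih => intro x; rw [Function.iterate_succ_apply, hup, ih, pow_succ, mul_assoc]
  have hil : ∀ m x, α^[m] (lo x) = lo (d ^ m * x) := by
    intro m
    induction m with
    | zero => intro x; simp
    | succ m ih => intro x; rw [Function.iterate_succ_apply, hlo, ih, pow_succ, mul_assoc]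
  have hc1 : c = 1 := by
    have h1 := up_inj ((hiu (2 ^ n) 1).symm.trans (hn _))
    rw [mul_one] at h1
    exact two_pow_eq_one h1
  have hd1 : d = 1 := by
    have h1 := lo_inj ((hil (2 ^ n) 1).symm.trans (hn _))
    rw [mul_one] at h1
    exact two_pow_eq_one h1
  have := hom_ext α (MonoidHom.id _) (fun b => by rw [hup, hc1, one_mul]; rfl)
    (fun b => by rw [hlo, hd1, one_mul]; rfl)
  rw [this]
  rfl

end

end Cfsg.Agent.Omega.Hex

end

section


/-!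
# A 2-subgroup of `N(R)` centralising the torus of `K` lies in `R` (`4 < |k|`)
-/

set_option autoImplicit false
set_option linter.dupNamespace false
set_option linter.unusedSectionVars false

universe u v w

namespace Cfsg.Agent.Omega.Hex

open Subgroup Cfsg.Agent.Omega.BTwo Cfsg.Agent.Omega.SQEnd Cfsg.Agent.Lib.SL2Mat

variable {G : Type u} [Group G] {ι : Type v}

namespace KIn

variable {V : Subgroup G} {R : ι → Subgroup G} {i j : ι} {k : Type w} [Field k] {K : Subgroup G}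
  {φ : K →* Matrix.SpecialLinearGroup (Fin 2) k} (n : KIn V R i j K φ) (b : BT V R)
  [Finite G] [Finite k] [CharP k 2]
include n b

/-- the torus of `K` in `H` -/
theorem exists_c {H : Subgroup G} (nt : NT (PLoc.UZ V R i) (PLoc.B0 V R i K))
    (hH : Cpl (PLoc.UZ V R i) (PLoc.B0 V R i K) H) {a : k} (ha : a ≠ 0) :
    ∃ c : K, (c : G) ∈ H ∧ ent (φ c) 0 0 = a ∧ ent (φ c) 1 0 = 0 ∧ ent (φ c) 1 1 = a⁻¹ := by
  obtain ⟨g, hg⟩ := n.kd.surj (dg a ha)
  have h0 : ent (φ g) 1 0 = 0 := by rw [hg]; rfl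
  have hgB : (g : G) ∈ PLoc.B0 V R i K :=
    (le_sup_right : PLoc.A2 V K ≤ _) (mem_inf.2 ⟨g.2, n.mem_NV_of b h0⟩)
  obtain ⟨u, hu, x, hx, e⟩ := nt.exists_mul hH hgB
  have huK : u ∈ K := n.UZ_le b hu
  have hxK : x ∈ K := by
    have e1 : x = u⁻¹ * g := by rw [e]; group
    rw [e1]
    exact mul_mem (inv_mem huK) g.2
  obtain ⟨s, hs⟩ := (n.mem_UZ b ⟨u, huK⟩).1 hu
  have e2 : g = ⟨u, huK⟩ * ⟨x, hxK⟩ := Subtype.ext e
  have e3 : φ ⟨x, hxK⟩ = (up s)⁻¹ * dg a ha := by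
    rw [← hg, e2, map_mul, hs]; group
  refine ⟨⟨x, hxK⟩, hx, ?_, ?_, ?_⟩
  · rw [e3, up_inv]; simp [ent_mul]
  · rw [e3, up_inv]; simp [ent_mul]
  · rw [e3, up_inv]; simp [ent_mul]

theorem c_comm {H : Subgroup G} (nt : NT (PLoc.UZ V R i) (PLoc.B0 V R i K))
    (hH : Cpl (PLoc.UZ V R i) (PLoc.B0 V R i K) H) {c c' : K} (hc : (c : G) ∈ H) (hc' : (c' : G) ∈ H)
    (h : ent (φ c) 1 0 = 0) (h' : ent (φ c') 1 0 = 0) : c * c' = c' * c := by
  have h1 : φ (c * c' * c⁻¹ * c'⁻¹) ∈ upG k := by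
    have hd := det_eq (φ c)
    have hd' := det_eq (φ c')
    rw [h, mul_zero, sub_zero] at hd
    rw [h', mul_zero, sub_zero] at hd'
    rw [map_mul, map_mul, map_mul, map_inv, map_inv, mem_upG, ent_inv, ent_inv]
    simp only [ent_mul, mk_00, mk_01, mk_10, mk_11, h, h']
    constructor
    · linear_combination hd * ent (φ c') 0 0 * ent (φ c') 1 1 + hd'
    · ring
  have h2 : ((c * c' * c⁻¹ * c'⁻¹ : K) : G) ∈ PLoc.UZ V R i := (n.mem_UZ b _).2 h1
  have h3 : ((c * c' * c⁻¹ * c'⁻¹ : K) : G) ∈ H := mul_mem (mul_mem (mul_mem hc hc') (inv_mem hc)) (inv_mem hc')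
  have h4 := inf_eq_bot_of_odd nt.two (nt.odd_cpl hH)
  have h5 : ((c * c' * c⁻¹ * c'⁻¹ : K) : G) ∈ PLoc.UZ V R i ⊓ H := mem_inf.2 ⟨h2, h3⟩
  rw [h4, mem_bot] at h5
  have h6 : c * c' * c⁻¹ * c'⁻¹ = 1 := Subtype.ext h5
  rw [mul_inv_eq_one, mul_inv_eq_iff_eq_mul] at h6
  exact h6

theorem exists_conj {H : Subgroup G} (nt : NT (PLoc.UZ V R i) (PLoc.B0 V R i K))
    (hH : Cpl (PLoc.UZ V R i) (PLoc.B0 V R i K) H) (h4 : ∃ a : k, a ≠ 0 ∧ a ≠ 1) :
    ∃ β : k, ∀ (a : k) (ha : a ≠ 0), ∃ c : K, (c : G) ∈ H ∧ up β * φ c * (up β)⁻¹ = dg a ha := by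
  obtain ⟨a₀, ha₀, ha1⟩ := h4
  obtain ⟨c₀, hc₀, h00, h10, h11⟩ := n.exists_c b nt hH ha₀
  have hne := inv_ne_self ha₀ ha1
  refine ⟨ent (φ c₀) 0 1 / (a₀ - a₀⁻¹), fun a ha => ?_⟩
  obtain ⟨c, hc, g00, g10, g11⟩ := n.exists_c b nt hH ha
  refine ⟨c, hc, ?_⟩
  have h1 := n.c_comm b nt hH hc hc₀ g10 h10
  have h2 := congrArg (fun A => ent (φ A) 0 1) h1
  simp only [map_mul, ent_mul, h00, h10, h11, g00, g10, g11] at h2
  set x₀ := ent (φ c₀) 0 1 with hx₀
  set x := ent (φ c) 0 1 with hx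
  set β := x₀ / (a₀ - a₀⁻¹) with hβ
  have h3 : β * (a₀ - a₀⁻¹) = x₀ := by rw [hβ, div_mul_cancel₀ _ hne]
  rw [mul_inv_eq_iff_eq_mul]
  apply ext_ent <;> simp only [ent_mul, dg_00, dg_01, dg_10, dg_11, up_00, up_01, up_10, up_11, g00, g10, g11]
  · ring
  · rw [← hx]
    have h4 : (x + β * a⁻¹ - a * β) * (a₀ - a₀⁻¹) = 0 := by
      linear_combination (a⁻¹ - a) * h3 - h2
    have h5 := (mul_eq_zero.1 h4).resolve_right hne
    linear_combination h5
  · ring
  · ring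

/-- conjugation by `t` on `K / W` -/
theorem exists_alpha {t : G} (ht : t ∈ normalizer (R i : Set G)) (β : k) :
    ∃ α : Matrix.SpecialLinearGroup (Fin 2) k →* Matrix.SpecialLinearGroup (Fin 2) k,
      ∀ (g : G) (hg : g ∈ K) (h : t * g * t⁻¹ ∈ K),
        α (up β * φ ⟨g, hg⟩ * (up β)⁻¹) = up β * φ ⟨t * g * t⁻¹, h⟩ * (up β)⁻¹ := by
  have htK := n.kd.NK ht
  have htW := normalizer_le_WW V (R i) ht
  set ψ : K →* Matrix.SpecialLinearGroup (Fin 2) k := (MulAut.conj (up β)).toMonoidHom.comp φ with hψ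
  have hψs : Function.Surjective ψ := (MulAut.conj (up β)).surjective.comp n.kd.surj
  set c : K →* K :=
    { toFun := fun g => ⟨t * g * t⁻¹, conj_mem_of_normalizer htK g.2⟩
      map_one' := Subtype.ext (by simp)
      map_mul' := fun x y => Subtype.ext (by simp) } with hc
  have hker : ψ.ker ≤ (ψ.comp c).ker := by
    intro g hg
    rw [MonoidHom.mem_ker] at hg ⊢
    have h1 : φ g = 1 := by
      have h2 : up β * φ g * (up β)⁻¹ = 1 := hg
      rw [mul_inv_eq_one] at h2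
      exact mul_eq_left.1 h2
    have h2 : φ (c g) = 1 := by
      rw [n.kd.ker] at h1 ⊢
      exact conj_mem_of_normalizer htW h1
    show up β * φ (c g) * (up β)⁻¹ = 1
    rw [h2]; group
  refine ⟨ψ.liftOfSurjective hψs ⟨ψ.comp c, hker⟩, fun g hg h => ?_⟩
  exact MonoidHom.liftOfRightInverse_comp_apply _ _ _ ⟨ψ.comp c, hker⟩ ⟨g, hg⟩

/-- a 2-element of `N(R)` centralising the torus of `K` centralises `K` modulo `W` -/
theorem cen_of_torus (h4 : 4 < Nat.card k) {H : Subgroup G} (nt : NT (PLoc.UZ V R i) (PLoc.B0 V R i K))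
    (hH : Cpl (PLoc.UZ V R i) (PLoc.B0 V R i K) H) {t : G} (ht : t ∈ normalizer (R i : Set G))
    (ht2 : ∃ n : ℕ, t ^ 2 ^ n = 1) (hc : ∀ c ∈ H, c ∈ K → t * c = c * t) {g : G} (hg : g ∈ K) :
    t * g * t⁻¹ * g⁻¹ ∈ WW V (R i) := by
  obtain ⟨a, ha, ha1⟩ := exists_ne_one h4.le
  obtain ⟨β, hβ⟩ := n.exists_conj b nt hH ⟨a, ha, ha1⟩
  obtain ⟨α, hα⟩ := n.exists_alpha b ht β
  have htK := n.kd.NK ht
  have hcK : ∀ x ∈ K, t * x * t⁻¹ ∈ K := fun x hx => conj_mem_of_normalizer htK hx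
  -- `α` is onto
  have hsurj : Function.Surjective α := by
    intro x
    obtain ⟨y, hy⟩ := n.kd.surj ((up β)⁻¹ * x * up β)
    have h1 : t⁻¹ * y * t ∈ K := conj_inv_mem_of_normalizer htK y.2
    have h2 := hα _ h1 (hcK _ h1)
    have e : (⟨t * (t⁻¹ * y * t) * t⁻¹, hcK _ h1⟩ : K) = y := Subtype.ext (by group)
    rw [e, hy] at h2
    exact ⟨_, h2.trans (by group)⟩
  have hinj : Function.Injective α := Finite.injective_iff_surjective.2 hsurj
  have hdg : ∀ (a : k) (ha : a ≠ 0), α (dg a ha) = dg a ha := by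
    intro a ha
    obtain ⟨c, hcH, e⟩ := hβ a ha
    have h1 := hα c c.2 (hcK _ c.2)
    have e1 : (⟨t * c * t⁻¹, hcK _ c.2⟩ : K) = c := Subtype.ext (by
      show t * c * t⁻¹ = c
      rw [hc c hcH c.2, mul_inv_cancel_right])
    rw [e1] at h1
    rwa [show (⟨(c : G), c.2⟩ : K) = c from rfl, e] at h1
  obtain ⟨m, hm⟩ := ht2
  have hit : ∀ l : ℕ, ∀ (x : G) (hx : x ∈ K) (h : t ^ l * x * (t ^ l)⁻¹ ∈ K),
      α^[l] (up β * φ ⟨x, hx⟩ * (up β)⁻¹) = up β * φ ⟨t ^ l * x * (t ^ l)⁻¹, h⟩ * (up β)⁻¹ := by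
    intro l
    induction l with
    | zero =>
      intro x hx h
      rw [Function.iterate_zero, id]
      congr 3
      exact Subtype.ext (by group)
    | succ l ih =>
      intro x hx h
      have h' : t ^ l * (t * x * t⁻¹) * (t ^ l)⁻¹ ∈ K := by
        have e : t ^ (l + 1) * x * (t ^ (l + 1))⁻¹ = t ^ l * (t * x * t⁻¹) * (t ^ l)⁻¹ := by
          rw [pow_succ]; group
        rwa [e] at h
      rw [Function.iterate_succ_apply, hα x hx (hcK x hx), ih _ (hcK x hx) h']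
      congr 3
      refine Subtype.ext ?_
      show t ^ l * (t * x * t⁻¹) * (t ^ l)⁻¹ = t ^ (l + 1) * x * (t ^ (l + 1))⁻¹
      rw [pow_succ]; group
  have hid := aut_eq_one h4 hinj hdg (n := m) fun x => by
    obtain ⟨y, hy⟩ := n.kd.surj ((up β)⁻¹ * x * up β)
    have e1 : t ^ 2 ^ m * (y : G) * (t ^ 2 ^ m)⁻¹ = y := by rw [hm]; group
    have h1 := hit (2 ^ m) y y.2 (by rw [e1]; exact y.2)
    have e2 : (⟨t ^ 2 ^ m * (y : G) * (t ^ 2 ^ m)⁻¹, by rw [e1]; exact y.2⟩ : K) = y := Subtype.ext e1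
    rw [e2, show (⟨(y : G), y.2⟩ : K) = y from rfl, hy] at h1
    have e3 : up β * ((up β)⁻¹ * x * up β) * (up β)⁻¹ = x := by group
    rwa [e3] at h1
  have h1 := hα g hg (hcK g hg)
  rw [hid] at h1
  have h2 : φ ⟨t * g * t⁻¹, hcK g hg⟩ = φ ⟨g, hg⟩ := by
    have := mul_right_cancel h1
    exact (mul_left_cancel this).symm
  have h3 : φ (⟨t * g * t⁻¹, hcK g hg⟩ * (⟨g, hg⟩ : K)⁻¹) = 1 := by
    rw [map_mul, map_inv, h2, mul_inv_cancel]
  exact (n.kd.ker _).1 h3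

/-- **`C_T(C_H(R)) ≤ R`** -/
theorem tor (h4 : 4 < Nat.card k) {H : Subgroup G} (nt : NT (PLoc.UZ V R i) (PLoc.B0 V R i K))
    (hH : Cpl (PLoc.UZ V R i) (PLoc.B0 V R i K) H)
    (e6 : ∀ t ∈ normalizer (R i : Set G), (∃ n : ℕ, t ^ 2 ^ n = 1) →
      (∀ g ∈ K, t * g * t⁻¹ * g⁻¹ ∈ WW V (R i)) → t ∈ WW V (R i))
    (e7 : ∀ m ∈ WW V (R i), (∀ c ∈ H, c ∈ K → c * m = m * c) → m ∈ R i)
    (T : Subgroup G) (hT : IsPGroup 2 T) (hTN : T ≤ normalizer (R i : Set G))
    (hc : ∀ h ∈ H, (∀ v ∈ R i, h * v = v * h) → ∀ t ∈ T, t * h = h * t) : T ≤ R i := by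
  intro t ht
  have hcK : ∀ c ∈ H, c ∈ K → t * c = c * t := fun c hcH hcK => hc c hcH (n.kd.KR c hcK) t ht
  have ht2 : ∃ n : ℕ, t ^ 2 ^ n = 1 := by
    obtain ⟨m, hm⟩ := hT ⟨t, ht⟩
    exact ⟨m, congrArg Subtype.val hm⟩
  have h1 : t ∈ WW V (R i) := e6 t (hTN ht) ht2 fun g hg => n.cen_of_torus b h4 nt hH (hTN ht) ht2 hcK hg
  exact e7 t h1 fun c hcH hcK' => (hcK c hcH hcK').symm

end KIn

end Cfsg.Agent.Omega.Hex

end
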