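import Cfsg.Agent.Mrg.Omega.BTwo.Conj
import Cfsg.Agent.Mrg.Omega.ExitsThree
import Cfsg.Agent.Lib.ProductSet

section


/-!
# (A) and (Z) of THEOREM R2T for the node `b = 2`

`R₋₂ = R^{n₁n₂}`, `R₄ = (R₋₂)^{n₁}`, `A = C_H(R₄) = C_H(R₋₂)`, `L = ⟨R₋₂, R₄⟩`: `Root A R₄ L`,
`L` is transitive on `P₁/B` and `(n₁n₂)³` normalises `A`.
-/

set_option autoImplicit false
set_option linter.dupNamespace false

universe u

namespace Cfsg.Agent.Omega.Hex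

open Subgroup Cfsg.Agent.Omega.BTwo
open scoped Pointwise

variable {G : Type u} [Group G] {P₁ P₂ B U H V R W Y D : Subgroup G} {n₁ n₂ : G} {q r : ℕ}

/-- the centralizer of `Q` in `H` -/
def CH (H Q : Subgroup G) : Subgroup G := H ⊓ centralizer (Q : Set G)

theorem mem_CH {Q : Subgroup G} {x : G} : x ∈ CH H Q ↔ x ∈ H ∧ ∀ v ∈ Q, x * v = v * x := by
  rw [CH, mem_inf, mem_centralizer_iff]
  exact and_congr_right fun _ => ⟨fun h v hv => (h v hv).symm, fun h v hv => (h v hv).symm⟩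

theorem cj_CH (g : G) (Q : Subgroup G) : cj g (CH H Q) = CH (cj g H) (cj g Q) := by
  rw [CH, CH, cj_inf, centralizer_cj]

theorem cj_CH_of_mem {g : G} (hg : g ∈ normalizer (H : Set G)) (Q : Subgroup G) :
    cj g (CH H Q) = CH H (cj g Q) := by
  rw [cj_CH, cj_eq_self_iff.2 hg]

/-- the product of two subgroups of a subgroup `K` is `K` by counting -/
theorem mul_eq_of_card [Finite G] {K₁ K₂ K : Subgroup G} (h₁ : K₁ ≤ K) (h₂ : K₂ ≤ K)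
    (h : Nat.card K * Nat.card (K₁ ⊓ K₂ : Subgroup G) ≤ Nat.card K₁ * Nat.card K₂) :
    ∀ x ∈ K, ∃ a ∈ K₁, ∃ b ∈ K₂, x = a * b := by
  have h3 := Lib.ProductSet.card_mul_card_inf K₁ K₂
  rw [← h3] at h
  have h4 : 0 < Nat.card (K₁ ⊓ K₂ : Subgroup G) := Nat.card_pos
  have h5 := Nat.le_of_mul_le_mul_right h h4
  have h6 : ((K₁ : Set G) * (K₂ : Set G)) ⊆ (K : Set G) := by
    rintro _ ⟨a, ha, b, hb, rfl⟩
    exact K.mul_mem (h₁ ha) (h₂ hb)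
  have h7 : ((K₁ : Set G) * (K₂ : Set G)) = (K : Set G) :=
    Set.eq_of_subset_of_ncard_le h6 (by rw [← Nat.card_coe_set_eq, ← Nat.card_coe_set_eq]; exact h5)
      (Set.toFinite _)
  intro x hx
  have h8 : x ∈ ((K₁ : Set G) * (K₂ : Set G)) := by rw [h7]; exact hx
  obtain ⟨a, ha, b, hb, hab⟩ := h8
  exact ⟨a, ha, b, hb, hab.symm⟩

namespace Hex

variable (h : Hex P₁ P₂ B U H V R W Y D n₁ n₂ q r)
include h

theorem BnR : B ≤ normalizer (R : Set G) := h.B₂.trans h.nR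
theorem BnV : B ≤ normalizer (V : Set G) := h.B₁.trans h.nV
theorem BnW : B ≤ normalizer (W : Set G) := h.B₂.trans h.nW
theorem BnY : B ≤ normalizer (Y : Set G) := h.B₁.trans h.nY
theorem VW : V ≤ W := h.VD.trans h.DW
theorem VY : V ≤ Y := h.VD.trans h.DY
theorem WB : W ≤ B := h.WU.trans h.UB
theorem YB : Y ≤ B := h.YU.trans h.UB
theorem VB : V ≤ B := h.VY.trans h.YB
theorem RW : R ≤ W := h.RV.trans h.VW

theorem comm_V {x y : G} (hx : x ∈ V) (hy : y ∈ V) : x * y = y * x := h.YV x (h.VY hx) y hy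

theorem cj_n₁V : cj n₁ V = V := cj_eq_self_iff.2 (h.nV h.n₁P)
theorem cj_n₁Y : cj n₁ Y = Y := cj_eq_self_iff.2 (h.nY h.n₁P)
theorem cj_n₂R : cj n₂ R = R := cj_eq_self_iff.2 (h.nR h.n₂P)
theorem cj_n₂W : cj n₂ W = W := cj_eq_self_iff.2 (h.nW h.n₂P)

theorem sq₁ {Q : Subgroup G} (hQ : B ≤ normalizer (Q : Set G)) : cj n₁ (cj n₁ Q) = Q := by
  rw [← cj_mul]; exact cj_eq_self_iff.2 (hQ h.n₁sq)
theorem sq₂ {Q : Subgroup G} (hQ : B ≤ normalizer (Q : Set G)) : cj n₂ (cj n₂ Q) = Q := by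
  rw [← cj_mul]; exact cj_eq_self_iff.2 (hQ h.n₂sq)

/-- `V₋₁` -/
theorem V1_le : cj n₂ V ≤ W := by
  have := cj_mono (g := n₂) h.VW
  rwa [h.cj_n₂W] at this

theorem V1_inf_Y : cj n₂ V ⊓ Y = R := by
  have h1 : cj n₂ (V ⊓ cj n₂ Y) = cj n₂ R := by rw [h.VV]
  rw [cj_inf, h.sq₂ h.BnY, h.cj_n₂R] at h1
  exact h1

variable [Finite G]

theorem q_pos : 0 < q := by have := h.q4; omega

theorem W_eq : ∀ w ∈ W, ∃ v ∈ cj n₂ V, ∃ y ∈ W ⊓ Y, w = v * y := by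
  refine mul_eq_of_card h.V1_le inf_le_left ?_
  have h1 : cj n₂ V ⊓ (W ⊓ Y) = R := by
    rw [← inf_assoc, inf_eq_left.2 h.V1_le, h.V1_inf_Y]
  rw [h1, h.cR, card_cj, h.cV, h.cW]
  apply le_of_eq; ring

/-- `V = R R₂` -/
theorem V_eq : ∀ v ∈ V, ∃ a ∈ R, ∃ b ∈ cj n₁ R, v = a * b := by
  have h1 : cj n₁ R ≤ V := by
    have := cj_mono (g := n₁) h.RV
    rwa [h.cj_n₁V] at this
  refine mul_eq_of_card h.RV h1 ?_
  rw [h.Rn, card_cj, h.cR, h.cV]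
  simp

/-- the root group `R₋₂` -/
theorem Rm_le_V1 : cj n₂ (cj n₁ R) ≤ cj n₂ V := by
  refine cj_mono ?_
  have := cj_mono (g := n₁) h.RV
  rwa [h.cj_n₁V] at this

omit [Finite G] in
theorem fix₁ {y : G} (hy : y ∈ Y) : n₁⁻¹ * y * n₁ ∈ B := by
  have h1 : y ∈ cj n₁ Y := by rw [h.cj_n₁Y]; exact hy
  exact h.YB (mem_cj.1 h1)

/-- `R₋₂` is transitive on the points of `V` other than `R`. -/
theorem transRm {x : G} (hx : x ∈ P₁) (hxB : x ∉ B) :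
    ∃ e ∈ cj n₂ (cj n₁ R), (e * n₁)⁻¹ * x ∈ B := by
  obtain ⟨w, hw, hwx⟩ := h.trans₁ x hx hxB
  obtain ⟨v, hv, y, hy, rfl⟩ := h.W_eq w hw
  have hv' : n₂⁻¹ * v * n₂ ∈ V := mem_cj.1 hv
  obtain ⟨a, ha, b, hb, hab⟩ := h.V_eq _ hv'
  have hab' : n₂⁻¹ * v * n₂ = b * a := by
    rw [hab]
    have h1 : cj n₁ R ≤ V := by
      have := cj_mono (g := n₁) h.RV
      rwa [h.cj_n₁V] at this
    exact h.comm_V (h.RV ha) (h1 hb)
  refine ⟨n₂ * b * n₂⁻¹, conj_mem_cj hb, ?_⟩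
  have hv2 : v = (n₂ * b * n₂⁻¹) * (n₂ * a * n₂⁻¹) := by
    calc v = n₂ * (n₂⁻¹ * v * n₂) * n₂⁻¹ := by group
      _ = n₂ * (b * a) * n₂⁻¹ := by rw [hab']
      _ = _ := by group
  have ha2 : n₂ * a * n₂⁻¹ ∈ R := by
    have := conj_mem_cj (g := n₂) ha
    rwa [h.cj_n₂R] at this
  have hz : (n₂ * a * n₂⁻¹) * y ∈ Y := Y.mul_mem (h.VY (h.RV ha2)) hy.2
  have h1 := h.fix₁ hz
  have e : (n₂ * b * n₂⁻¹ * n₁)⁻¹ * x =
      (n₁⁻¹ * ((n₂ * a * n₂⁻¹) * y) * n₁) * ((v * y * n₁)⁻¹ * x) := by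
    conv_rhs => rw [hv2]
    group
  rw [e]
  exact B.mul_mem h1 hwx

/-- `R₋₂ ∩ Y = 1` -/
theorem Rm_inf_Y : cj n₂ (cj n₁ R) ⊓ Y = ⊥ := by
  rw [eq_bot_iff]
  intro x hx
  have h1 : x ∈ cj n₂ V ⊓ Y := ⟨h.Rm_le_V1 hx.1, hx.2⟩
  rw [h.V1_inf_Y] at h1
  have h2 : x ∈ cj n₂ (R ⊓ cj n₁ R) := by
    rw [cj_inf, h.cj_n₂R]
    exact ⟨h1, hx.1⟩
  rw [h.Rn, cj_bot] at h2
  exact h2

theorem Rm_le_W : cj n₂ (cj n₁ R) ≤ W := h.Rm_le_V1.trans h.V1_le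

theorem Rm_le_U : cj n₂ (cj n₁ R) ≤ U := h.Rm_le_W.trans h.WU

/-- `R₋₂` acts regularly: an element fixing the point `R₂` is trivial. -/
theorem Rm_semireg {e : G} (he : e ∈ cj n₂ (cj n₁ R)) (hB : n₁⁻¹ * e * n₁ ∈ B) : e = 1 := by
  have h1 : e ∈ Y := h.ker₁ ⟨h.Rm_le_W he, mem_cj.2 hB⟩
  have h2 : e ∈ cj n₂ (cj n₁ R) ⊓ Y := ⟨he, h1⟩
  rw [h.Rm_inf_Y] at h2
  exact h2

omit [Finite G] in
theorem Hn {g : G} (hg : g ∈ normalizer (H : Set G)) {Q : Subgroup G}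
    (hQ : H ≤ normalizer (Q : Set G)) : H ≤ normalizer (cj g Q : Set G) := by
  intro x hx
  rw [normalizer_cj, mem_cj]
  exact hQ (conj_inv_mem_of_normalizer hg hx)

omit [Finite G] in
theorem HnR : H ≤ normalizer (R : Set G) := h.HB.trans h.BnR

omit [Finite G] in
theorem HnRm : H ≤ normalizer (cj n₂ (cj n₁ R) : Set G) := h.Hn h.n₂H (h.Hn h.n₁H h.HnR)

omit [Finite G] in
theorem HnRp : H ≤ normalizer (cj n₁ (cj n₂ (cj n₁ R)) : Set G) := h.Hn h.n₁H h.HnRm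

/-- An element `x` of `P₁` which normalises the flag `(R, V)` (i.e. lies in `B`) and the point `R₂`,
and commutes with the root group `R₋₂`, fixes every point of `V`. -/
theorem fix_all {x : G} (hxB : x ∈ B) (hx₁ : n₁⁻¹ * x * n₁ ∈ B)
    (hc : ∀ e ∈ cj n₂ (cj n₁ R), x * e = e * x) {g : G} (hg : g ∈ P₁) : g⁻¹ * x * g ∈ B := by
  by_cases hgB : g ∈ B
  · exact B.mul_mem (B.mul_mem (B.inv_mem hgB) hxB) hgB
  · obtain ⟨e, he, heg⟩ := h.transRm hg hgB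
    set b := (e * n₁)⁻¹ * g with hb
    have hg' : g = e * n₁ * b := by rw [hb]; group
    have h1 := hc e he
    have : g⁻¹ * x * g = b⁻¹ * (n₁⁻¹ * x * n₁) * b := by
      rw [hg']
      calc (e * n₁ * b)⁻¹ * x * (e * n₁ * b) = b⁻¹ * n₁⁻¹ * e⁻¹ * (x * e) * n₁ * b := by group
        _ = b⁻¹ * n₁⁻¹ * e⁻¹ * (e * x) * n₁ * b := by rw [h1]
        _ = _ := by group
    rw [this]
    exact B.mul_mem (B.mul_mem (B.inv_mem heg) hx₁) heg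

/-- the same for the root group `R₄` -/
theorem Rp_semireg {e g : G} (he : e ∈ cj n₁ (cj n₂ (cj n₁ R)))
    (hB : ∀ g ∈ P₁, g⁻¹ * e * g ∈ B) : e = 1 := by
  have h1 : n₁⁻¹ * e * n₁ ∈ cj n₂ (cj n₁ R) := mem_cj.1 he
  have h2 : n₁⁻¹ * (n₁⁻¹ * e * n₁) * n₁ ∈ B := by
    have := hB (n₁ * n₁) (P₁.mul_mem h.n₁P h.n₁P)
    have e1 : (n₁ * n₁)⁻¹ * e * (n₁ * n₁) = n₁⁻¹ * (n₁⁻¹ * e * n₁) * n₁ := by group
    rwa [e1] at this
  have h3 := h.Rm_semireg h1 h2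
  calc e = n₁ * (n₁⁻¹ * e * n₁) * n₁⁻¹ := by group
    _ = 1 := by rw [h3]; group

/-- LEMMA A (first half): `C_H(R₋₂) ≤ C_H(R₄)`. -/
theorem CH_le : CH H (cj n₂ (cj n₁ R)) ≤ CH H (cj n₁ (cj n₂ (cj n₁ R))) := by
  intro x hx
  rw [mem_CH] at hx ⊢
  refine ⟨hx.1, fun e he => ?_⟩
  have hxB := h.HB hx.1
  have hxN : x ∈ normalizer (H : Set G) := le_normalizer hx.1
  have hx₁ : n₁⁻¹ * x * n₁ ∈ B := mem_cj.1 (h.H₁ ⟨hxB, hxN⟩)
  -- the commutator `x e x⁻¹ e⁻¹` lies in `R₄` and fixes every point of `V`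
  have hR4 : x * e * x⁻¹ ∈ cj n₁ (cj n₂ (cj n₁ R)) :=
    conj_mem_of_normalizer (h.HnRp hx.1) he
  have hf : x * e * x⁻¹ * e⁻¹ ∈ cj n₁ (cj n₂ (cj n₁ R)) := mul_mem hR4 (inv_mem he)
  have heP : e ∈ P₁ := by
    have h1 : cj n₁ (cj n₂ (cj n₁ R)) ≤ P₁ := by
      have h2 := cj_mono (g := n₁) ((h.Rm_le_U.trans h.UB).trans h.B₁)
      rwa [cj_of_mem h.n₁P] at h2
    exact h1 he
  have hfix := fun g (hg : g ∈ P₁) => h.fix_all hxB hx₁ (hx.2) (g := g) hg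
  have h5 : x * e * x⁻¹ * e⁻¹ = 1 := by
    refine h.Rp_semireg (g := 1) hf fun g hg => ?_
    have h6 := hfix g hg
    have h7 := hfix (e⁻¹ * g) (P₁.mul_mem (P₁.inv_mem heP) hg)
    have e8 : g⁻¹ * (x * e * x⁻¹ * e⁻¹) * g =
        (g⁻¹ * x * g) * ((e⁻¹ * g)⁻¹ * x * (e⁻¹ * g))⁻¹ := by group
    rw [e8]
    exact B.mul_mem h6 (B.inv_mem h7)
  calc x * e = (x * e * x⁻¹ * e⁻¹) * (e * x) := by group
    _ = e * x := by rw [h5, one_mul]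

/-! ### the translation `n₁n₂` -/

omit [Finite G] in
theorem tH : n₁ * n₂ ∈ normalizer (H : Set G) := mul_mem h.n₁H h.n₂H

omit [Finite G] in
theorem nR2 {x : G} (hx : x ∈ B ⊓ normalizer (H : Set G)) : x ∈ normalizer (cj n₁ R : Set G) := by
  rw [normalizer_cj]
  exact cj_mono h.BnR (h.H₁ hx)

omit [Finite G] in
theorem t_Rm : cj (n₁ * n₂) (cj n₂ (cj n₁ R)) = R := by
  rw [cj_mul]
  have h1 : cj n₂ (cj n₂ (cj n₁ R)) = cj n₁ R := by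
    rw [← cj_mul]
    exact cj_eq_self_iff.2 (h.nR2 ⟨h.n₂sq, mul_mem h.n₂H h.n₂H⟩)
  rw [h1, h.sq₁ h.BnR]

omit [Finite G] in
theorem t_R0 : cj (n₁ * n₂) R = cj n₁ R := by rw [cj_mul, h.cj_n₂R]

omit [Finite G] in
theorem tt_R0 : cj ((n₁ * n₂) * (n₁ * n₂)) R = cj n₁ (cj n₂ (cj n₁ R)) := by
  rw [cj_mul, h.t_R0, cj_mul]

omit [Finite G] in
theorem ttt_Rm : cj ((n₁ * n₂) ^ 3) (cj n₂ (cj n₁ R)) = cj n₁ (cj n₂ (cj n₁ R)) := by
  have e : (n₁ * n₂) ^ 3 = ((n₁ * n₂) * (n₁ * n₂)) * (n₁ * n₂) := by rw [pow_succ, pow_two]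
  rw [e, cj_mul, h.t_Rm, h.tt_R0]

/-- LEMMA A -/
theorem CH_eq : CH H (cj n₂ (cj n₁ R)) = CH H (cj n₁ (cj n₂ (cj n₁ R))) := by
  refine eq_of_le_of_card_ge h.CH_le ?_
  rw [← h.ttt_Rm, ← cj_CH_of_mem (pow_mem h.tH 3), card_cj]

theorem cj_A : cj ((n₁ * n₂) ^ 3) (CH H (cj n₁ (cj n₂ (cj n₁ R)))) =
    CH H (cj n₁ (cj n₂ (cj n₁ R))) := by
  conv_lhs => rw [← h.CH_eq]
  rw [cj_CH_of_mem (pow_mem h.tH 3), h.ttt_Rm]

/-- (T4) : `R₄` is transitive on the points of `V` other than `R₂`. -/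
theorem transRp {x : G} (hx : x ∈ P₁) (hxB : n₁⁻¹ * x ∉ B) :
    ∃ f ∈ cj n₁ (cj n₂ (cj n₁ R)), f⁻¹ * x ∈ B := by
  obtain ⟨e, he, hex⟩ := h.transRm (P₁.mul_mem (P₁.inv_mem h.n₁P) hx) hxB
  refine ⟨n₁ * e * n₁⁻¹, conj_mem_cj he, ?_⟩
  have e1 : (n₁ * e * n₁⁻¹)⁻¹ * x = (n₁ * n₁) * ((e * n₁)⁻¹ * (n₁⁻¹ * x)) := by group
  rw [e1]
  exact B.mul_mem h.n₁sq hex

end Hex

/-- the group `L = ⟨R₋₂, R₄⟩` -/
def LL (n₁ n₂ : G) (R : Subgroup G) : Subgroup G :=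
  cj n₂ (cj n₁ R) ⊔ cj n₁ (cj n₂ (cj n₁ R))

section Glob

variable [Finite G]

theorem cards (h : Hex P₁ P₂ B U H V R W Y D n₁ n₂ q r) :
    Nat.card (cj n₂ (cj n₁ R) : Subgroup G) = q := by rw [card_cj, card_cj, h.cR]

/-- a `2`-subgroup normalising `R₄` and centralising `A` is in `R₄` -/
theorem tor4 (h : Hex P₁ P₂ B U H V R W Y D n₁ n₂ q r) (g : Glob H R) {T : Subgroup G}
    (hT : IsPGroup 2 T) (hn : T ≤ normalizer (cj n₁ (cj n₂ (cj n₁ R)) : Set G))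
    (hc : ∀ x ∈ T, ∀ a ∈ CH H (cj n₁ (cj n₂ (cj n₁ R))), x * a = a * x) :
    T ≤ cj n₁ (cj n₂ (cj n₁ R)) := by
  set s := (n₁ * n₂) * (n₁ * n₂) with hs
  have hsH : s ∈ normalizer (H : Set G) := mul_mem h.tH h.tH
  have e4 : cj n₁ (cj n₂ (cj n₁ R)) = cj s R := h.tt_R0.symm
  rw [e4] at hn hc ⊢
  have h1 : cj s⁻¹ T ≤ R := by
    refine g.tor _ (isPGroup_cj hT) ?_ ?_
    · have h2 := cj_mono (g := s⁻¹) hn
      rwa [normalizer_cj, cj_inv_cj] at h2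
    · intro x hx hxR t ht
      have ht' : s * t * s⁻¹ ∈ T := by
        have := mem_cj.1 ht
        rwa [inv_inv] at this
      have hx' : s * x * s⁻¹ ∈ CH H (cj s R) := by
        have h3 : s * x * s⁻¹ ∈ cj s (CH H R) := conj_mem_cj (mem_CH.2 ⟨hx, hxR⟩)
        rwa [cj_CH_of_mem hsH] at h3
      have h4 := hc _ ht' _ hx'
      have h5 : s * (t * x) * s⁻¹ = s * (x * t) * s⁻¹ := by
        calc s * (t * x) * s⁻¹ = (s * t * s⁻¹) * (s * x * s⁻¹) := by group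
          _ = (s * x * s⁻¹) * (s * t * s⁻¹) := h4
          _ = _ := by group
      exact mul_left_cancel (mul_right_cancel h5)
  have h6 := cj_mono (g := s) h1
  rwa [cj_cj_inv] at h6

theorem syl4 (h : Hex P₁ P₂ B U H V R W Y D n₁ n₂ q r) (g : Glob H R) {T : Subgroup G}
    (hT : IsPGroup 2 T)
    (hc : ∀ x ∈ T, ∀ a ∈ CH H (cj n₁ (cj n₂ (cj n₁ R))), x * a = a * x)
    (hle : cj n₁ (cj n₂ (cj n₁ R)) ≤ T) : T ≤ cj n₁ (cj n₂ (cj n₁ R)) := by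
  set E := cj n₁ (cj n₂ (cj n₁ R)) with hE
  by_contra hcon
  haveI : Group.IsNilpotent T := hT.isNilpotent
  have hlt : E.subgroupOf T < ⊤ := by
    rw [lt_top_iff_ne_top]
    intro h1
    exact hcon (subgroupOf_eq_top.1 h1)
  have h2 := (Group.normalizerCondition_of_isNilpotent (G := T)) _ hlt
  obtain ⟨x, hx, hxE⟩ := SetLike.exists_of_lt h2
  apply hxE
  rw [mem_subgroupOf]
  have hxn : (x : G) ∈ normalizer (E : Set G) := by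
    refine mem_normalizer_of_conj fun y hy => ?_
    have h3 := (mem_normalizer_iff.1 hx ⟨y, hle hy⟩).1 (mem_subgroupOf.2 hy)
    exact mem_subgroupOf.1 h3
  have h4 : T ⊓ normalizer (E : Set G) ≤ E :=
    tor4 h g (hT.to_le inf_le_left) inf_le_right (fun y hy => hc y hy.1)
  exact h4 ⟨x.2, hxn⟩

end Glob

end Cfsg.Agent.Omega.Hex

end

section


/-!
# `Root A R₄ L` for the node `b = 2`
-/

set_option autoImplicit false
set_option linter.dupNamespace false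

universe u

namespace Cfsg.Agent.Omega.Hex

open Subgroup Cfsg.Agent.Omega.BTwo Cfsg.Agent.Omega.RootLemma
open scoped Pointwise

variable {G : Type u} [Group G] [Finite G] {P₁ P₂ B U H V R W Y D : Subgroup G} {n₁ n₂ : G} {q r : ℕ}

/-- the same for `R₋₂` -/
theorem sylm (h : Hex P₁ P₂ B U H V R W Y D n₁ n₂ q r) (g : Glob H R) {T : Subgroup G}
    (hT : IsPGroup 2 T)
    (hc : ∀ x ∈ T, ∀ a ∈ CH H (cj n₁ (cj n₂ (cj n₁ R))), x * a = a * x)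
    (hle : cj n₂ (cj n₁ R) ≤ T) : T ≤ cj n₂ (cj n₁ R) := by
  set s := (n₁ * n₂) ^ 3 with hs
  have h1 : cj s T ≤ cj n₁ (cj n₂ (cj n₁ R)) := by
    refine syl4 h g (isPGroup_cj hT) ?_ ?_
    · intro x hx a ha
      have hx' : s⁻¹ * x * s ∈ T := mem_cj.1 hx
      have ha' : s⁻¹ * a * s ∈ CH H (cj n₁ (cj n₂ (cj n₁ R))) := by
        rw [← h.cj_A] at ha
        exact mem_cj.1 ha
      have h4 := hc _ hx' _ ha'
      have h5 : s⁻¹ * (x * a) * s = s⁻¹ * (a * x) * s := by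
        calc s⁻¹ * (x * a) * s = (s⁻¹ * x * s) * (s⁻¹ * a * s) := by group
          _ = (s⁻¹ * a * s) * (s⁻¹ * x * s) := h4
          _ = _ := by group
      exact mul_left_cancel (mul_right_cancel h5)
    · rw [← h.ttt_Rm]
      exact cj_mono hle
  rw [← h.ttt_Rm] at h1
  have h2 := cj_mono (g := s⁻¹) h1
  rwa [cj_inv_cj, cj_inv_cj] at h2

section

variable (h : Hex P₁ P₂ B U H V R W Y D n₁ n₂ q r) (g : Glob H R)
include h

theorem LL_comm : ∀ k ∈ LL n₁ n₂ R, ∀ a ∈ CH H (cj n₁ (cj n₂ (cj n₁ R))), k * a = a * k := by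
  have h1 : LL n₁ n₂ R ≤ centralizer (CH H (cj n₁ (cj n₂ (cj n₁ R))) : Set G) := by
    refine sup_le ?_ ?_
    · intro x hx
      rw [mem_centralizer_iff]
      intro a ha
      rw [← h.CH_eq] at ha
      exact (mem_CH.1 ha).2 x hx
    · intro x hx
      rw [mem_centralizer_iff]
      intro a ha
      exact (mem_CH.1 ha).2 x hx
  intro k hk a ha
  exact ((mem_centralizer_iff.1 (h1 hk)) a ha).symm

theorem two_R : IsPGroup 2 R := h.two.to_le (h.RW.trans h.WU)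

theorem exists_ne_Rm : ∃ e ∈ cj n₂ (cj n₁ R), e ≠ 1 := by
  by_contra hcon
  push Not at hcon
  have h1 : cj n₂ (cj n₁ R) = ⊥ := by
    rw [eq_bot_iff]; exact fun x hx => hcon x hx
  have h2 := cards h
  rw [h1, card_bot] at h2
  have := h.q4
  omega

theorem LL_le_P₁ : LL n₁ n₂ R ≤ P₁ := by
  have h1 : cj n₂ (cj n₁ R) ≤ P₁ := (h.Rm_le_U.trans h.UB).trans h.B₁
  refine sup_le h1 ?_
  have h2 := cj_mono (g := n₁) h1
  rwa [cj_of_mem h.n₁P] at h2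

/-- an element of `⟨R₄^L⟩` moving the point `R₂` to `R` -/
theorem exists_g : ∃ e ∈ cj n₂ (cj n₁ R), ∃ f ∈ cj n₁ (cj n₂ (cj n₁ R)), e * f * e⁻¹ * n₁ ∈ B := by
  obtain ⟨e, he, he1⟩ := exists_ne_Rm h
  have heB : e ∈ B := h.UB (h.Rm_le_U he)
  have h1 : n₁⁻¹ * (e⁻¹ * n₁) ∉ B := by
    intro hc
    have h2 : n₁⁻¹ * e⁻¹ * n₁ ∈ B := by rw [mul_assoc]; exact hc
    exact he1 (inv_eq_one.1 (h.Rm_semireg (inv_mem he) h2))
  have hP : e⁻¹ * n₁ ∈ P₁ := P₁.mul_mem (P₁.inv_mem (h.B₁ heB)) h.n₁P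
  obtain ⟨f, hf, hfx⟩ := h.transRp hP h1
  refine ⟨e, he, f⁻¹, inv_mem hf, ?_⟩
  have e1 : e * f⁻¹ * e⁻¹ * n₁ = e * (f⁻¹ * (e⁻¹ * n₁)) := by group
  rw [e1]
  exact B.mul_mem heB hfx

/-- `L` is transitive on `P₁/B`. -/
theorem LL_trans {x : G} (hx : x ∈ P₁) : ∃ l ∈ LL n₁ n₂ R, l⁻¹ * x ∈ B := by
  by_cases hxB : n₁⁻¹ * x ∈ B
  · obtain ⟨e, he, f, hf, hef⟩ := exists_g h
    have heL : e ∈ LL n₁ n₂ R := mem_sup_left he
    have hfL : f ∈ LL n₁ n₂ R := mem_sup_right hf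
    refine ⟨(e * f * e⁻¹)⁻¹, inv_mem (mul_mem (mul_mem heL hfL) (inv_mem heL)), ?_⟩
    rw [inv_inv]
    have e1 : e * f * e⁻¹ * x = (e * f * e⁻¹ * n₁) * (n₁⁻¹ * x) := by group
    rw [e1]
    exact B.mul_mem hef hxB
  · obtain ⟨f, hf, hfx⟩ := h.transRp hx hxB
    exact ⟨f, mem_sup_right hf, hfx⟩

include g

theorem Rm_not_norm : ∃ k ∈ LL n₁ n₂ R, ∃ v ∈ cj n₁ (cj n₂ (cj n₁ R)),
    k * v * k⁻¹ ∉ cj n₁ (cj n₂ (cj n₁ R)) := by
  by_contra hcon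
  push Not at hcon
  have h1 : cj n₂ (cj n₁ R) ≤ normalizer (cj n₁ (cj n₂ (cj n₁ R)) : Set G) := fun k hk =>
    mem_normalizer_of_conj fun v hv => hcon k (mem_sup_left hk) v hv
  have h2 : cj n₂ (cj n₁ R) ≤ cj n₁ (cj n₂ (cj n₁ R)) :=
    tor4 h g (isPGroup_cj (isPGroup_cj (two_R h))) h1
      (fun x hx a ha => LL_comm h x (mem_sup_left hx) a ha)
  obtain ⟨e, he, he1⟩ := exists_ne_Rm h
  have h3 : n₁⁻¹ * e * n₁ ∈ B := h.UB (h.Rm_le_U (mem_cj.1 (h2 he)))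
  exact he1 (h.Rm_semireg he h3)

theorem gen4 : LL n₁ n₂ R ≤ closure {x | ∃ k ∈ LL n₁ n₂ R, ∃ v ∈ cj n₁ (cj n₂ (cj n₁ R)),
    x = k * v * k⁻¹} := by
  set N := closure {x | ∃ k ∈ LL n₁ n₂ R, ∃ v ∈ cj n₁ (cj n₂ (cj n₁ R)), x = k * v * k⁻¹} with hN
  have h4 : cj n₁ (cj n₂ (cj n₁ R)) ≤ N := fun v hv =>
    subset_closure ⟨1, one_mem _, v, hv, by group⟩
  refine sup_le ?_ h4
  obtain ⟨e, he, f, hf, hef⟩ := exists_g h
  set x := e * f * e⁻¹ with hx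
  have heL : e ∈ LL n₁ n₂ R := mem_sup_left he
  have hfL : f ∈ LL n₁ n₂ R := mem_sup_right hf
  have hxL : x ∈ LL n₁ n₂ R := mul_mem (mul_mem heL hfL) (inv_mem heL)
  -- `R₄ ^ x ≤ U`
  have h5 : cj x (cj n₁ (cj n₂ (cj n₁ R))) ≤ U := by
    have e1 : cj x (cj n₁ (cj n₂ (cj n₁ R))) = cj (x * n₁) (cj n₂ (cj n₁ R)) := by rw [cj_mul x n₁]
    rw [e1]
    have h6 := cj_mono (g := x * n₁) h.Rm_le_U
    rwa [cj_eq_self_iff.2 (h.nU hef)] at h6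
  have h7 : cj n₂ (cj n₁ R) ⊔ cj x (cj n₁ (cj n₂ (cj n₁ R))) ≤ cj n₂ (cj n₁ R) := by
    refine sylm h g (h.two.to_le (sup_le h.Rm_le_U h5)) ?_ le_sup_left
    intro y hy a ha
    refine LL_comm h y ?_ a ha
    refine (sup_le ?_ ?_ : _ ≤ LL n₁ n₂ R) hy
    · exact le_sup_left
    · rintro _ ⟨z, hz, rfl⟩
      exact mul_mem (mul_mem hxL (mem_sup_right hz)) (inv_mem hxL)
  have h8 : cj x (cj n₁ (cj n₂ (cj n₁ R))) = cj n₂ (cj n₁ R) := by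
    refine eq_of_le_of_card_ge (le_sup_right.trans h7) ?_
    simp only [card_cj, le_refl]
  rw [← h8]
  rintro _ ⟨z, hz, rfl⟩
  exact subset_closure ⟨x, hxL, z, hz, rfl⟩

/-- (A) + (Z) of THEOREM R2T in the form of `RootLemma`. -/
theorem root : Root (CH H (cj n₁ (cj n₂ (cj n₁ R)))) (cj n₁ (cj n₂ (cj n₁ R))) (LL n₁ n₂ R) where
  le := le_sup_right
  comm := LL_comm h
  two := isPGroup_cj (isPGroup_cj (isPGroup_cj (two_R h)))
  syl P hP hc hle := syl4 h g hP hc hle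
  pair := by
    have hV : ∀ x ∈ cj n₁ (cj n₂ (cj n₁ R)), x * x = 1 := by
      intro x hx
      rw [← h.tt_R0] at hx
      have h1 := h.sq _ (h.RV (mem_cj.1 hx))
      have e1 : ∀ s : G, s⁻¹ * x * s * (s⁻¹ * x * s) = s⁻¹ * (x * x) * s := by intro s; group
      rw [e1] at h1
      have h2 : x * x = (n₁ * n₂ * (n₁ * n₂)) * ((n₁ * n₂ * (n₁ * n₂))⁻¹ * (x * x) *
          (n₁ * n₂ * (n₁ * n₂))) * (n₁ * n₂ * (n₁ * n₂))⁻¹ := by group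
      rw [h2, h1]; group
    have hcard : Nat.card (cj n₁ (cj n₂ (cj n₁ R)) : Subgroup G) = q := by
      rw [card_cj, card_cj, card_cj, h.cR]
    set E := cj n₁ (cj n₂ (cj n₁ R)) with hE
    have hn : (E : Set G).ncard = q := by rw [← Nat.card_coe_set_eq]; exact hcard
    have hq := h.q4
    obtain ⟨a, ha, ha1⟩ : ∃ a ∈ (E : Set G), a ∉ ({1} : Set G) :=
      Set.exists_mem_notMem_of_ncard_lt_ncard (by rw [Set.ncard_singleton, hn]; omega)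
    obtain ⟨b, hb, hb1⟩ : ∃ b ∈ (E : Set G), b ∉ ({1, a} : Set G) :=
      Set.exists_mem_notMem_of_ncard_lt_ncard (by
        have := Set.ncard_insert_le (1 : G) {a}
        rw [Set.ncard_singleton] at this
        omega)
    have hb2 : b ≠ 1 ∧ b ≠ a := by
      constructor
      · intro hc; exact hb1 (by simp [hc])
      · intro hc; exact hb1 (by simp [hc])
    exact ⟨a, ha, b, hb, hV a ha, hV b hb, fun hc => ha1 hc, hb2.1, fun hc => hb2.2 hc.symm⟩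
  cent := by
    intro u hu _ v hv
    rw [← h.tt_R0] at hu hv
    have h1 := h.comm_V (h.RV (mem_cj.1 hu)) (h.RV (mem_cj.1 hv))
    set s := n₁ * n₂ * (n₁ * n₂)
    have h5 : s⁻¹ * (u * v) * s = s⁻¹ * (v * u) * s := by
      calc s⁻¹ * (u * v) * s = (s⁻¹ * u * s) * (s⁻¹ * v * s) := by group
        _ = (s⁻¹ * v * s) * (s⁻¹ * u * s) := h1
        _ = _ := by group
    exact mul_left_cancel (mul_right_cancel h5)
  norm := by
    intro u hu _ hu1 c hc _ v hv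
    rw [← h.tt_R0] at hu hv ⊢
    set s := n₁ * n₂ * (n₁ * n₂)
    have h1 : s⁻¹ * c * s ∈ normalizer (R : Set G) := by
      refine g.cen (s⁻¹ * u * s) (mem_cj.1 hu) ?_ _ ?_
      · intro h0
        apply hu1
        calc u = s * (s⁻¹ * u * s) * s⁻¹ := by group
          _ = 1 := by rw [h0]; group
      · calc s⁻¹ * c * s * (s⁻¹ * u * s) = s⁻¹ * (c * u) * s := by group
          _ = s⁻¹ * (u * c) * s := by rw [hc]
          _ = _ := by group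
    have h2 : c ∈ normalizer (cj s R : Set G) := by
      rw [normalizer_cj]; exact mem_cj.2 h1
    exact conj_mem_of_normalizer h2 hv
  mv := Rm_not_norm h g
  gen := gen4 h g

end

end Cfsg.Agent.Omega.Hex

end
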